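import Groth.Agent.ResProp.EF.K60.GamPkg
import Groth.Agent.ResProp.EF.K363.LevDesc

/-!
# AD3: the operator package of an `AlgPkg` over the levels of a groupoid ring

`levPkg` : `OpPkg H X.k` from `L : Lev k A H P`, `X : AlgPkg P`, the cocycle `ψ` over `k ⊗ A⟨1⟩` and the lifts of
helper363's `glue_all`.
-/

set_option autoImplicit false
set_option linter.dupNamespace false

universe u

open CategoryTheory Opposite TensorProduct Groth.Agent.ResProp.EF.K104 Groth.Agent.ResProp.EF.K649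
  Groth.Agent.ResProp.EF.K980 Groth.Agent.ResProp.EF.K363 Groth.Agent.ResProp.EF.K959

namespace Groth.Agent.ResProp.EF.K60

open K784.BC K784.PM K741.RP EF56 Grp Arch

theorem ppull_congr {R : Type u} [CommRing R] (P : PGpd.{u} R) {R' R'' : Type u} [CommRing R'] [CommRing R'']
    {f g : R' →+* R''} (h : f = g) {x y : R →+* R'} {x' y' : R →+* R''} (hx : f.comp x = x') (hy : f.comp y = y')
    (hx' : g.comp x = x') (hy' : g.comp y = y') (a : P.Hom x y) : P.pull f hx hy a = P.pull g hx' hy' a := by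
  subst h; rfl

theorem ppull_sq {R : Type u} [CommRing R] (P : PGpd.{u} R) {R₁ R₂ R₃ R₄ : Type u} [CommRing R₁] [CommRing R₂]
    [CommRing R₃] [CommRing R₄] {f : R₁ →+* R₂} {g : R₂ →+* R₄} {f' : R₁ →+* R₃} {g' : R₃ →+* R₄}
    (h : g.comp f = g'.comp f') {x₁ y₁ : R →+* R₁} {x₂ y₂ : R →+* R₂} {x₃ y₃ : R →+* R₃} {x₄ y₄ : R →+* R₄}
    (hx : f.comp x₁ = x₂) (hy : f.comp y₁ = y₂) (hx2 : g.comp x₂ = x₄) (hy2 : g.comp y₂ = y₄)
    (hx' : f'.comp x₁ = x₃) (hy' : f'.comp y₁ = y₃) (hx2' : g'.comp x₃ = x₄) (hy2' : g'.comp y₃ = y₄)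
    (a : P.Hom x₁ y₁) : P.pull g hx2 hy2 (P.pull f hx hy a) = P.pull g' hx2' hy2' (P.pull f' hx' hy' a) := by
  have e1 : (g.comp f).comp x₁ = x₄ := by rw [RingHom.comp_assoc, hx, hx2]
  have e2 : (g.comp f).comp y₁ = y₄ := by rw [RingHom.comp_assoc, hy, hy2]
  have e3 : (g'.comp f').comp x₁ = x₄ := by rw [RingHom.comp_assoc, hx', hx2']
  have e4 : (g'.comp f').comp y₁ = y₄ := by rw [RingHom.comp_assoc, hy', hy2']
  rw [P.pull_pull f g hx hy hx2 hy2 e1 e2, P.pull_pull f' g' hx' hy' hx2' hy2' e3 e4]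
  exact ppull_congr P h _ _ _ _ a

section Lev

variable {k : Type u} [CommRing k] {A : NFᵒᵖ ⥤ CommRingCat.{u}} [GRF k A] {H : GFun k}
  {P : PGpd.{u} (A.obj (op ⟨0⟩))}

/-- the chart point of level `⟨0⟩` is the point of the identity -/
theorem eB (B : Type u) [CommRing B] [Algebra k B] :
    (RingHom.id (B ⊗[k] A.obj (op ⟨0⟩))).comp (xp k A B 0 0) = pB k (RingHom.id (A.obj (op ⟨0⟩))) B := by
  ext r
  change (1 : B) ⊗ₜ[k] (vx A ⟨0⟩ 0 r) = 1 ⊗ₜ r
  have : pt (⟨0⟩ : NF) 0 = 𝟙 _ := by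
    funext i
    exact Subsingleton.elim (α := Fin 1) _ _
  rw [vx, this, rg_id]
  rfl

theorem mB_lv {B C : Type u} [CommRing B] [Algebra k B] [CommRing C] [Algebra k C] (f : B →ₐ[k] C) :
    (mB k (A.obj (op ⟨0⟩)) f).comp (RingHom.id _) = (RingHom.id _).comp (lv k A f (fun t : Fin (0 + 1) => t)) := by
  rw [RingHom.comp_id, RingHom.id_comp]
  have h1 : Algebra.TensorProduct.map f (AlgHom.id k (A.obj (op ⟨0⟩))) =
      Algebra.TensorProduct.map f (rgk k A (vmap (fun t : Fin (0 + 1) => t))) := by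
    congr 1
    ext z
    have h2 : vmap (fun t : Fin (0 + 1) => t) = 𝟙 (⟨0⟩ : NF) := rfl
    change z = rg A (vmap (fun t : Fin (0 + 1) => t)) z
    rw [h2, rg_id]
    rfl
  exact congrArg AlgHom.toRingHom h1

/-- the action of the points of `H` on the chart -/
noncomputable def levAct (L : Lev k A H P) : HAct k P (RingHom.id (A.obj (op ⟨0⟩))) H where
  app B _ _ h := P.pull (RingHom.id _) (eB B) (eB B) (L.ar B 0 0 0 h)
  app_one B _ _ := by rw [L.ar_one, P.pull_id]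
  app_mul B _ _ h h' := by rw [← P.pull_comp, L.ar_comp]
  app_map {B C} _ _ _ _ f h := by
    rw [← L.ar_pull f (fun t : Fin (0 + 1) => t) 0 0 h]
    exact ppull_sq P (mB_lv f) _ _ _ _ _ _ _ _ _

variable (k A) in
/-- `⟨1⟩ ⟶ ⟨0⟩` at the vertex `i`, `k`-linear -/
noncomputable abbrev fv (i : Fin 2) : A.obj (op ⟨0⟩) →ₐ[k] A.obj (op ⟨1⟩) := rgk k A (pt ⟨1⟩ i)

theorem fv_comp (i : Fin 2) :
    (fv k A i : A.obj (op ⟨0⟩) →+* A.obj (op ⟨1⟩)).comp (RingHom.id (A.obj (op ⟨0⟩))) = vx A ⟨1⟩ i := rfl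

/-- pull-back of operators from the chart to the vertex `i` of `⟨1⟩`, through level `⟨0⟩` -/
theorem mG_lv (B : Type u) [CommRing B] [Algebra k B] (i : Fin 2) (a : Fin (0 + 1) → Fin (1 + 1)) (ha : ∀ t, a t = i) :
    (mG k (fv k A i) B).comp (RingHom.id _) = lv k A (AlgHom.id k B) a := by
  rw [RingHom.comp_id]
  have e : (pt ⟨1⟩ i : (⟨1⟩ : NF) ⟶ ⟨0⟩) = vmap a := funext fun t => (ha t).symm
  have h1 : Algebra.TensorProduct.map (AlgHom.id k B) (fv k A i) =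
      Algebra.TensorProduct.map (AlgHom.id k B) (rgk k A (vmap a)) := by
    rw [fv, e]
  exact congrArg AlgHom.toRingHom h1

section Pkg

variable (X : AlgPkg P) (L : Lev k A H P) (hA : GR A)
  (ψ : BC ((lvB k hA k).x 1 0) X.K ≃ₗ[(lvB k hA k).Rn 1] BC ((lvB k hA k).x 1 1) X.K)

/-- the arrow of `ψ` over `A⟨1⟩` -/
noncomputable def gam1 (L : Lev k A H P) : P.Hom (vx A ⟨1⟩ 0) (vx A ⟨1⟩ 1) :=
  P.pull (lidA k A 1) (lidA_x 1 0) (lidA_x 1 1) (L.ar k 1 0 1 1)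

theorem sgA_mem (hψ : ψ ∈ X.L (L.ar k 1 0 1 1)) : sgA hA ψ ∈ X.L (gam1 L) :=
  X.L_pull (lidA k A 1) (lidA_x 1 0) (lidA_x 1 1) _ (flat_xp hA k 1 0) (flat_xp hA k 1 1) (flat_pt hA 1 0)
    (flat_pt hA 1 1) ψ hψ

/-- the lifts commuting with `ψ` -/
def LiftsComm : Prop := ∀ (B : Type u) [CommRing B] [Algebra k B] [Module.Flat k B] (h : H.pt B),
  ∃ g ∈ X.L (L.ar B 0 0 0 h), Commutes (lvB k hA B) (psiB hA X.K ψ B) g

theorem hne_lev (hc : LiftsComm X L hA ψ) (B : Type u) [CommRing B] [Algebra k B] [Module.Flat k B] (h : H.pt B) :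
    ∃ g ∈ X.L ((levAct L).app B h),
      CommB k (fv k A 0) (fv k A 1) (fv_comp 0) (fv_comp 1) X (sgA hA ψ) B g.toLinearMap := by
  obtain ⟨g, hg, hcg⟩ := hc B h
  refine ⟨BC.pullE (RingHom.id _) (eB B) (eB B) g, ?_, ?_⟩
  · exact X.L_pull (RingHom.id _) (eB B) (eB B) _ (flat_xp hA B 0 0) (flat_xp hA B 0 0)
      (pB_flat k (RingHom.Flat.id _) B) (pB_flat k (RingHom.Flat.id _) B) g hg
  · have key : ∀ (i : Fin 2) (a : Fin (0 + 1) → Fin (1 + 1)) (ha : ∀ t, a t = i)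
        (hx : (lv k A (AlgHom.id k B) a).comp (xp k A B 0 0) = pB k (vx A ⟨1⟩ i) B),
        pAA k B (fv_comp i) X.toOpCpx (BC.pullE (RingHom.id _) (eB B) (eB B) g).toLinearMap =
          (BC.pull (lv k A (AlgHom.id k B) a) hx hx g.toLinearMap) := by
      intro i a ha hx
      rw [pAA_apply, BC.pullE_toLinearMap, BC.pull_pull (eB B) (eB B) (mG_comp_pB k _ (fv_comp i) B)
        (mG_comp_pB k _ (fv_comp i) B) (by rw [mG_lv B i a ha]; exact hx) (by rw [mG_lv B i a ha]; exact hx)]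
      exact K60.pull_congr (mG_lv B i a ha) _ _ _ _ _
    have h0 : (lv k A (AlgHom.id k B) ![0]).comp (xp k A B 0 0) = pB k (vx A ⟨1⟩ 0) B :=
      lv_xp k A (AlgHom.id k B) (m := 0) (n := 1) ![0] 0
    have h1 : (lv k A (AlgHom.id k B) ![1]).comp (xp k A B 0 0) = pB k (vx A ⟨1⟩ 1) B :=
      lv_xp k A (AlgHom.id k B) (m := 0) (n := 1) ![1] 0
    rw [CommB, key 0 ![0] (fun t => by fin_cases t; rfl) h0, key 1 ![1] (fun t => by fin_cases t; rfl) h1]
    have hps : psB k X (sgA hA ψ) B = psiB hA X.K ψ B := (psiB_eq hA ψ B).symm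
    rw [hps]
    exact congrArg LinearEquiv.toLinearMap hcg

/-- **AD3.** The operator package of `Γ`-equivariant operators. -/
noncomputable def levPkg (hψ : ψ ∈ X.L (L.ar k 1 0 1 1)) (hc : LiftsComm X L hA ψ) : OpPkg H X.k :=
  gamPkg k (fv k A 0) (fv k A 1) (fv_comp 0) (fv_comp 1) X (RingHom.Flat.id _) (flat_pt hA 1 0) (flat_pt hA 1 1)
    (levAct L) (sgA_mem X L hA ψ hψ) (hne_lev X L hA ψ hc)

end Pkg

end Lev

end Groth.Agent.ResProp.EF.K60
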