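import Groth.Agent.ResProp.EF.K60.OpFunOf2

/-!
# The chart level operator package of an `AlgPkg` (node AD3, helper60)

`HAct k P s H` : the points of `H` over `B` act as arrows `pB s B → pB s B` (diagrammatic composition: `h * h'` is first
`h'`, then `h`).  `chartPkg` : all operators over `B ⊗ G`, lifts = `X.L (act h)`.
-/

set_option autoImplicit false

universe u

open TensorProduct Groth.Agent.ResProp.EF.K104 Groth.Agent.ResProp.EF.K649 Groth.Agent.ResProp.EF.K980

namespace Groth.Agent.ResProp.EF.K60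

section Fil

variable (k : Type u) [CommRing k] {R G : Type u} [CommRing R] [CommRing G] [Algebra k G] (X : OpCpx.{u} R) (s : R →+* G)

/-- `DD^(j)` inside `D = DDx s 1` -/
def Fk (j : ℕ) : Submodule k (Dk k X s) where
  carrier := {T | Dk.val k X s T ∈ X.DDx s j}
  add_mem' {T T'} h h' := by
    change Dk.val k X s (T + T') ∈ X.DDx s j
    rw [Dk.val_add]; exact add_mem h h'
  zero_mem' := zero_mem (X.DDx s j)
  smul_mem' r T h := by
    change Dk.val k X s (r • T) ∈ X.DDx s j
    rw [Dk_smul, Dk.val_smul]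
    exact Submodule.smul_mem _ _ h

theorem mem_Fk (j : ℕ) (T : Dk k X s) : T ∈ Fk k X s j ↔ Dk.val k X s T ∈ X.DDx s j := Iff.rfl

variable (B : Type u) [CommRing B] [Algebra k B]

/-- operators in `B ⊗ DD^(j)` lie in `DD^(j)` over `B ⊗ G` -/
theorem iotaf_mem (j : ℕ) (z : B ⊗[k] Dk k X s) (hz : z ∈ (Fk k X s j).baseChange B) :
    iotaf k X s B z ∈ X.DDx (pB k s B) j := by
  obtain ⟨y, rfl⟩ := hz
  induction y with
  | zero => rw [map_zero, map_zero]; exact zero_mem _
  | add a b ha hb => rw [map_add, map_add]; exact add_mem ha hb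
  | tmul b T =>
    change iotaf k X s B (b ⊗ₜ (T : Dk k X s)) ∈ _
    rw [iotaf_tmul]
    exact Submodule.smul_mem _ _ (pull_mem_DDx X _ _ T.2)

/-- all operators in `DD^(j)` over `B ⊗ G` come from `B ⊗ DD^(j)` -/
theorem exists_iotaf (j : ℕ) (hj : 1 ≤ j) (T : AAf k X s B) (hT : T ∈ X.DDx (pB k s B) j) :
    ∃ z ∈ (Fk k X s j).baseChange B, iotaf k X s B z = T := by
  refine DDx_induction X (pB k s B) j (p := fun T => ∃ z ∈ (Fk k X s j).baseChange B, iotaf k X s B z = T)
    ⟨0, zero_mem _, map_zero _⟩ (fun r S hS => ?_) ?_ hT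
  · induction r with
    | zero => exact ⟨0, zero_mem _, by rw [map_zero, zero_smul]⟩
    | add a b ha hb =>
      obtain ⟨z, hz, hz'⟩ := ha
      obtain ⟨w, hw, hw'⟩ := hb
      exact ⟨z + w, add_mem hz hw, by rw [map_add, hz', hw', add_smul]⟩
    | tmul b g =>
      have h1 : g • BC.map s S ∈ X.DDx s j := Submodule.smul_mem _ _ (map_mem_DDx X s j hS)
      refine ⟨b ⊗ₜ (Dk.mk k X s (g • BC.map s S) (DDx_anti X s hj h1)), ?_, ?_⟩
      · exact Submodule.tmul_mem_baseChange_of_mem b h1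
      · rw [iotaf_tmul, Dk.val_mk, BC.pull_smul, BC.pull_map, smul_smul, inR_apply,
          Algebra.TensorProduct.tmul_mul_tmul, mul_one, one_mul]
  · rintro a b ⟨z, hz, rfl⟩ ⟨w, hw, rfl⟩
    exact ⟨z + w, add_mem hz hw, map_add _ _ _⟩

end Fil

section Chart

variable (k : Type u) [CommRing k] {R G : Type u} [CommRing R] [CommRing G] [Algebra k G] (P : PGpd.{u} R) (s : R →+* G)
  (H : GFun k)

/-- the points of `H` act on the base changes of the point `s` -/
structure HAct where
  /-- the arrow of a point of `H` -/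
  app : ∀ (B : Type u) [CommRing B] [Algebra k B], H.pt B → P.Hom (pB k s B) (pB k s B)
  app_one : ∀ (B : Type u) [CommRing B] [Algebra k B], app B 1 = P.id _
  app_mul : ∀ (B : Type u) [CommRing B] [Algebra k B] (h h' : H.pt B), app B (h * h') = P.comp (app B h') (app B h)
  app_map : ∀ {B C : Type u} [CommRing B] [Algebra k B] [CommRing C] [Algebra k C] (f : B →ₐ[k] C) (h : H.pt B),
    P.pull (mB k G f) (mB_comp_pB k s f) (mB_comp_pB k s f) (app B h) = app C (H.map f h)

variable {k P s H}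

theorem HAct.app_inv (act : HAct k P s H) (B : Type u) [CommRing B] [Algebra k B] (h : H.pt B) :
    P.inv (act.app B h) = act.app B h⁻¹ := by
  have h1 := act.app_mul B h⁻¹ h
  rw [inv_mul_cancel, act.app_one] at h1
  calc P.inv (act.app B h) = P.comp (P.inv (act.app B h)) (P.id _) := (P.comp_id _).symm
    _ = P.comp (P.inv (act.app B h)) (P.comp (act.app B h) (act.app B h⁻¹)) := by rw [h1]
    _ = act.app B h⁻¹ := by rw [← P.comp_assoc, P.inv_comp, P.id_comp]

/-- units and automorphisms -/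
def uE {B M : Type u} [CommRing B] [AddCommGroup M] [Module B M] : (Module.End B M)ˣ ≃* (M ≃ₗ[B] M) :=
  LinearMap.GeneralLinearGroup.generalLinearEquiv B M

theorem uE_apply {B M : Type u} [CommRing B] [AddCommGroup M] [Module B M] (ψ : (Module.End B M)ˣ) (v : M) :
    uE ψ v = (ψ : Module.End B M) v := rfl

theorem uE_symm_val {B M : Type u} [CommRing B] [AddCommGroup M] [Module B M] (ψ : M ≃ₗ[B] M) :
    ((uE.symm ψ : (Module.End B M)ˣ) : Module.End B M) = ψ.toLinearMap := rfl

theorem uE_toLinearMap {B M : Type u} [CommRing B] [AddCommGroup M] [Module B M] (ψ : (Module.End B M)ˣ) :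
    (uE ψ).toLinearMap = (ψ : Module.End B M) := rfl

theorem uE_symm_toLinearMap {B M : Type u} [CommRing B] [AddCommGroup M] [Module B M] (ψ : (Module.End B M)ˣ) :
    (uE ψ).symm.toLinearMap = ((ψ⁻¹ : (Module.End B M)ˣ) : Module.End B M) := rfl

variable (X : AlgPkg P) (hs : s.Flat) (act : HAct k P s H)

/-- the lifts of a point of `H` -/
def LiftC (B : Type u) [CommRing B] [Algebra k B] (h : H.pt B) : Set (AAf k X.toOpCpx s B)ˣ :=
  {ψ | uE ψ ∈ X.L (act.app B h)}

/-- **The chart level package.** -/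
noncomputable def chartPkg : OpPkg H X.k where
  AA B _ _ := AAf k X.toOpCpx s B
  ring B _ _ := inferInstance
  alg B _ _ := algAAf k X.toOpCpx s B
  map {B C} _ _ _ _ f :=
    { toFun := fun L => BC.pull (mB k G f) (mB_comp_pB k s f) (mB_comp_pB k s f) L
      map_one' := BC.pull_id _
      map_mul' := fun L L' => BC.pull_comp _ _ _ _ _
      map_zero' := BC.pull_zero _ _
      map_add' := fun L L' => BC.pull_add _ _ _ _ }
  map_algebraMap {B C} _ _ _ _ f b := by
    change BC.pull (mB k G f) (mB_comp_pB k s f) (mB_comp_pB k s f) (algebraMap B (AAf k X.toOpCpx s B) b) =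
      algebraMap C (AAf k X.toOpCpx s C) (f b)
    rw [algAAf_algebraMap, algAAf_algebraMap, BC.pull_smul, mB_tmul]
    congr 1
    exact BC.pull_id _
  map_id B _ _ x := by
    change BC.pull (mB k G (AlgHom.id k B)) (mB_comp_pB k s _) (mB_comp_pB k s _) x = x
    have key : ∀ (g : B ⊗[k] G →+* B ⊗[k] G) (h1 : g = RingHom.id _) (h2 : g.comp (pB k s B) = pB k s B),
        BC.pull g h2 h2 x = x := by
      intro g h1 h2
      subst h1
      exact BC.pull_idRing _ _ _
    exact key _ (mB_id k B) _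
  map_comp {B C D} _ _ _ _ _ _ f g x := by
    change BC.pull (mB k G (g.comp f)) (mB_comp_pB k s _) (mB_comp_pB k s _) x =
      BC.pull (mB k G g) (mB_comp_pB k s g) (mB_comp_pB k s g) (BC.pull (mB k G f) (mB_comp_pB k s f) (mB_comp_pB k s f) x)
    have h1 : ((mB k G g).comp (mB k G f)).comp (pB k s B) = pB k s D := by
      rw [← mB_comp]; exact mB_comp_pB k s _
    rw [BC.pull_pull (mB_comp_pB k s f) (mB_comp_pB k s f) (mB_comp_pB k s g) (mB_comp_pB k s g) h1 h1]
    have key : ∀ (g' : B ⊗[k] G →+* D ⊗[k] G) (e1 : g' = (mB k G g).comp (mB k G f)) (h2 : g'.comp (pB k s B) = pB k s D),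
        BC.pull g' h2 h2 x = BC.pull ((mB k G g).comp (mB k G f)) h1 h1 x := by
      intro g' e1 h2
      subst e1
      rfl
    exact key _ (mB_comp k f g) _
  D := Dk k X.toOpCpx s
  Fil := Fk k X.toOpCpx s
  fil_anti j T hT := DDx_succ X.toOpCpx s j hT
  fil_one := by
    rw [eq_top_iff]
    intro T _
    exact T.2
  fil_last := by
    rw [eq_bot_iff]
    intro T hT
    have h1 : Dk.val k X.toOpCpx s T ∈ X.DDx s (X.k + 1) := hT
    rw [DDx_last, Submodule.mem_bot] at h1
    rw [Submodule.mem_bot]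
    exact Dk.ext k X.toOpCpx s h1
  iota B _ _ := iotaf k X.toOpCpx s B
  iota_inj B _ _ _ := iotaf_injective k X.toOpCpx s B hs
  iota_map {B C} _ _ _ _ f b T := by
    change BC.pull (mB k G f) (mB_comp_pB k s f) (mB_comp_pB k s f) (iotaf k X.toOpCpx s B (b ⊗ₜ T)) =
      iotaf k X.toOpCpx s C (f b ⊗ₜ T)
    rw [iotaf_tmul, iotaf_tmul, BC.pull_smul, mB_tmul]
    congr 1
    have e : (mB k G f).comp (inR k G B) = inR k G C := by
      ext g
      change mB k G f (1 ⊗ₜ g) = 1 ⊗ₜ g
      rw [mB_tmul, map_one]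
    have h1 : ((mB k G f).comp (inR k G B)).comp s = pB k s C := by rw [e]; rfl
    rw [BC.pull_pull (inR_comp k s B) (inR_comp k s B) (mB_comp_pB k s f) (mB_comp_pB k s f) h1 h1]
    have key : ∀ (g' : G →+* C ⊗[k] G) (e1 : g' = inR k G C) (h2 : g'.comp s = pB k s C),
        BC.pull g' h2 h2 (Dk.val k X.toOpCpx s T) =
          BC.pull (inR k G C) (inR_comp k s C) (inR_comp k s C) (Dk.val k X.toOpCpx s T) := by
      intro g' e1 h2
      subst e1
      rfl
    exact key _ e h1
  mul_mem B _ _ _ i j hi hj x y hx hy := by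
    have h1 := iotaf_mem k X.toOpCpx s B i x hx
    have h2 := iotaf_mem k X.toOpCpx s B j y hy
    exact exists_iotaf k X.toOpCpx s B (i + j) (by omega) _ (DDx_mul X.toOpCpx _ h1 h2)
  Lift B _ _ h := LiftC X act B h
  lift_ne B _ _ _ h := by
    obtain ⟨ψ, hψ⟩ := X.L_ne (act.app B h) (pB_flat k hs B) (pB_flat k hs B)
    refine ⟨uE.symm ψ, ?_⟩
    change uE (uE.symm ψ) ∈ X.L (act.app B h)
    rw [MulEquiv.apply_symm_apply]
    exact hψ
  lift_map {B C} _ _ _ _ _ _ f h ψ hψ := by
    have h1 : uE ψ ∈ X.L (act.app B h) := hψ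
    have h2 := X.L_pull (mB k G f) (mB_comp_pB k s f) (mB_comp_pB k s f) _ (pB_flat k hs B) (pB_flat k hs B)
      (pB_flat k hs C) (pB_flat k hs C) _ h1
    rw [act.app_map] at h2
    exact h2
  lift_mul B _ _ _ h h' ψ hψ ψ' hψ' := by
    have h1 : uE ψ ∈ X.L (act.app B h) := hψ
    have h2 : uE ψ' ∈ X.L (act.app B h') := hψ'
    have h3 := X.L_comp _ _ (pB_flat k hs B) (pB_flat k hs B) (pB_flat k hs B) _ h2 _ h1
    rw [← act.app_mul] at h3
    exact h3
  lift_inv B _ _ _ h ψ hψ := by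
    have h1 : uE ψ ∈ X.L (act.app B h) := hψ
    have h2 := X.L_inv _ (pB_flat k hs B) (pB_flat k hs B) _ h1
    rw [act.app_inv] at h2
    exact h2
  lift_one B _ _ _ ψ hψ := by
    have h1 : uE ψ ∈ X.L (act.app B 1) := hψ
    rw [act.app_one, X.L_one _ _ (pB_flat k hs B)] at h1
    obtain ⟨T, hT, h2⟩ := h1
    obtain ⟨z, -, hz⟩ := exists_iotaf k X.toOpCpx s B 1 le_rfl T hT
    refine ⟨z, ?_⟩
    rw [hz]
    exact LinearMap.ext h2
  lift_conj B _ _ _ h ψ hψ j hj x hx := by
    have h1 : uE ψ ∈ X.L (act.app B h) := hψ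
    have h2 := iotaf_mem k X.toOpCpx s B j x hx
    have h3 := X.L_conj _ (pB_flat k hs B) (pB_flat k hs B) _ h1 j hj _ h2
    obtain ⟨z, hz, hz'⟩ := exists_iotaf k X.toOpCpx s B j hj _ h3
    exact ⟨z, hz, hz'⟩

end Chart

end Groth.Agent.ResProp.EF.K60
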