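import Groth.Agent.ResProp.EF.K649.OpPkg
import Mathlib.Algebra.Algebra.Subalgebra.Basic
import Mathlib.RingTheory.Flat.Basic

/-!
# The equalizer of an operator package (seam "OPPKG", helper60)

`OpFun k` : a functor of rings of operators with a module of operators `D` (an `OpPkg` without lifts and filtration).
`OpHom` : natural maps.  If `P` is an `OpPkg H n` (chart level: all endomorphisms of `KK ⊗ B`), `Q` an `OpFun k` (the
same over `Γ`) and `u v` two maps `P → Q` (the two pull-backs, one of them conjugated with the glued `ψ`), then the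
equalizer (the `Γ`-equivariant endomorphisms) is an `OpPkg H n` again, provided that every point of `H` has an equivariant
lift.
-/

set_option autoImplicit false

universe u

open TensorProduct Groth.Agent.ResProp.EF.K104 Groth.Agent.ResProp.EF.K649

namespace Groth.Agent.ResProp.EF.K60

section Flat

variable {k : Type u} [CommRing k] {D₀ D₁ : Type u} [AddCommGroup D₀] [AddCommGroup D₁] [Module k D₀] [Module k D₁]
  (w : D₀ →ₗ[k] D₁) (N : Submodule k D₀) (B : Type u) [CommRing B] [Algebra k B] [Module.Flat k B]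

/-- kernels commute with flat base change, inside a submodule -/
theorem exists_baseChange_ker (z : B ⊗[k] D₀) (hz : z ∈ N.baseChange B) (h0 : w.lTensor B z = 0) :
    ∃ y ∈ (N.comap (LinearMap.ker w).subtype).baseChange B, (LinearMap.ker w).subtype.lTensor B y = z := by
  obtain ⟨y, rfl⟩ := hz
  let w' : N →ₗ[k] D₁ := w ∘ₗ N.subtype
  have hex : Function.Exact (LinearMap.ker w').subtype w' := LinearMap.exact_subtype_ker_map w'
  have hex' := Module.Flat.lTensor_exact B hex
  have hy : w'.lTensor B y = 0 := by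
    have : w'.lTensor B y = w.lTensor B ((N.subtype.baseChange B) y) := by
      rw [LinearMap.lTensor_comp]; rfl
    rw [this]; exact h0
  obtain ⟨t, ht⟩ := (hex' y).1 hy
  let j : LinearMap.ker w' →ₗ[k] (N.comap (LinearMap.ker w).subtype) :=
    LinearMap.codRestrict _ (LinearMap.codRestrict (LinearMap.ker w) (N.subtype ∘ₗ (LinearMap.ker w').subtype)
      (fun c => c.2)) (fun c => c.1.2)
  refine ⟨(N.comap (LinearMap.ker w).subtype).subtype.baseChange B (j.baseChange B t), ⟨_, rfl⟩, ?_⟩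
  rw [← ht]
  change ((LinearMap.ker w).subtype.lTensor B ∘ₗ ((N.comap (LinearMap.ker w).subtype).subtype.lTensor B) ∘ₗ j.lTensor B) t
    = (N.subtype.lTensor B ∘ₗ (LinearMap.ker w').subtype.lTensor B) t
  rw [← LinearMap.lTensor_comp, ← LinearMap.lTensor_comp, ← LinearMap.lTensor_comp]
  rfl

end Flat

/-- an operator package without lifts -/
structure OpFun (k : Type u) [CommRing k] where
  AA : (B : Type u) → [CommRing B] → [Algebra k B] → Type u
  ring : ∀ (B : Type u) [CommRing B] [Algebra k B], Ring (AA B)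
  alg : ∀ (B : Type u) [CommRing B] [Algebra k B], letI := ring B; Algebra B (AA B)
  map : ∀ {B C : Type u} [CommRing B] [Algebra k B] [CommRing C] [Algebra k C],
    (B →ₐ[k] C) → letI := ring B; letI := ring C; AA B →+* AA C
  D : Type u
  [addD : AddCommGroup D]
  [modD : Module k D]
  iota : ∀ (B : Type u) [CommRing B] [Algebra k B], letI := ring B; letI := alg B; B ⊗[k] D →ₗ[B] AA B
  iota_inj : ∀ (B : Type u) [CommRing B] [Algebra k B] [Module.Flat k B], Function.Injective (iota B)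

attribute [instance] OpFun.ring OpFun.alg OpFun.addD OpFun.modD

variable {k : Type u} [CommRing k] {H : GFun k} {n : ℕ}

/-- natural maps from a package to a functor of operators -/
structure OpHom (P : OpPkg H n) (Q : OpFun k) where
  app : ∀ (B : Type u) [CommRing B] [Algebra k B], P.AA B →ₐ[B] Q.AA B
  nat : ∀ {B C : Type u} [CommRing B] [Algebra k B] [CommRing C] [Algebra k C] (f : B →ₐ[k] C) (x : P.AA B),
    app C (P.map f x) = Q.map f (app B x)
  d : P.D →ₗ[k] Q.D
  app_iota : ∀ (B : Type u) [CommRing B] [Algebra k B] (x : B ⊗[k] P.D),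
    app B (P.iota B x) = Q.iota B (d.lTensor B x)

variable {P : OpPkg H n} {Q : OpFun k} (u v : OpHom P Q)

/-- the equivariant operators -/
abbrev eqAA (B : Type u) [CommRing B] [Algebra k B] : Subalgebra B (P.AA B) := AlgHom.equalizer (u.app B) (v.app B)

/-- the equivariant part of `D` -/
abbrev eqD : Submodule k P.D := LinearMap.ker (u.d - v.d)

theorem iota_mem_eqAA (B : Type u) [CommRing B] [Algebra k B] (x : B ⊗[k] eqD u v) :
    P.iota B ((eqD u v).subtype.baseChange B x) ∈ eqAA u v B := by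
  rw [AlgHom.mem_equalizer, u.app_iota, v.app_iota]
  congr 1
  change (u.d.lTensor B ∘ₗ (eqD u v).subtype.lTensor B) x = (v.d.lTensor B ∘ₗ (eqD u v).subtype.lTensor B) x
  rw [← LinearMap.lTensor_comp, ← LinearMap.lTensor_comp]
  congr 2
  ext c
  have := c.2
  rw [LinearMap.mem_ker, LinearMap.sub_apply, sub_eq_zero] at this
  exact this

/-- operators: `B ⊗ D^Γ → AA(B)^Γ` -/
def eqIota (B : Type u) [CommRing B] [Algebra k B] : B ⊗[k] eqD u v →ₗ[B] eqAA u v B :=
  LinearMap.codRestrict (Subalgebra.toSubmodule (eqAA u v B)) (P.iota B ∘ₗ (eqD u v).subtype.baseChange B)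
    (iota_mem_eqAA u v B)

theorem eqIota_coe (B : Type u) [CommRing B] [Algebra k B] (x : B ⊗[k] eqD u v) :
    (eqIota u v B x : P.AA B) = P.iota B ((eqD u v).subtype.baseChange B x) := rfl

/-- an equivariant element of `B ⊗ D` in `B ⊗ Fil j` comes from `B ⊗ Fil j D^Γ` -/
theorem exists_eq (B : Type u) [CommRing B] [Algebra k B] [Module.Flat k B] (N : Submodule k P.D) (z : B ⊗[k] P.D)
    (hz : z ∈ N.baseChange B) (h : P.iota B z ∈ eqAA u v B) :
    ∃ y ∈ (N.comap (eqD u v).subtype).baseChange B, ((eqIota u v B y : eqAA u v B) : P.AA B) = P.iota B z := by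
  rw [AlgHom.mem_equalizer, u.app_iota, v.app_iota] at h
  have h' := Q.iota_inj B h
  have h0 : (u.d - v.d).lTensor B z = 0 := by
    rw [LinearMap.lTensor_sub, LinearMap.sub_apply, h', sub_self]
  obtain ⟨y, hy, hyz⟩ := exists_baseChange_ker (u.d - v.d) N B z hz h0
  refine ⟨y, hy, ?_⟩
  rw [eqIota_coe]
  congr 1

theorem mem_of_comap (B : Type u) [CommRing B] [Algebra k B] (N : Submodule k P.D) (x : B ⊗[k] eqD u v)
    (hx : x ∈ (N.comap (eqD u v).subtype).baseChange B) : (eqD u v).subtype.baseChange B x ∈ N.baseChange B := by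
  obtain ⟨y, rfl⟩ := hx
  let j : (N.comap (eqD u v).subtype) →ₗ[k] N :=
    LinearMap.codRestrict N ((eqD u v).subtype ∘ₗ (N.comap (eqD u v).subtype).subtype) (fun c => c.2)
  refine ⟨j.baseChange B y, ?_⟩
  change (N.subtype.lTensor B ∘ₗ j.lTensor B) y
    = ((eqD u v).subtype.lTensor B ∘ₗ (N.comap (eqD u v).subtype).subtype.lTensor B) y
  rw [← LinearMap.lTensor_comp, ← LinearMap.lTensor_comp]
  rfl

/-- restriction of the functoriality to the equivariant operators -/
def eqMap {B C : Type u} [CommRing B] [Algebra k B] [CommRing C] [Algebra k C] (f : B →ₐ[k] C) :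
    eqAA u v B →+* eqAA u v C :=
  RingHom.codRestrict ((P.map f).comp (eqAA u v B).val.toRingHom) (eqAA u v C) fun x => by
    have hx := x.2
    rw [AlgHom.mem_equalizer] at hx
    rw [AlgHom.mem_equalizer]
    change u.app C (P.map f (x : P.AA B)) = v.app C (P.map f (x : P.AA B))
    rw [u.nat, v.nat, hx]

theorem eqMap_coe {B C : Type u} [CommRing B] [Algebra k B] [CommRing C] [Algebra k C] (f : B →ₐ[k] C)
    (x : eqAA u v B) : (eqMap u v f x : P.AA C) = P.map f (x : P.AA B) := rfl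

/-- the inclusion on units -/
def uCoe (B : Type u) [CommRing B] [Algebra k B] : (eqAA u v B)ˣ →* (P.AA B)ˣ :=
  Units.map ((eqAA u v B).val : eqAA u v B →* P.AA B)

theorem uCoe_val (B : Type u) [CommRing B] [Algebra k B] (ψ : (eqAA u v B)ˣ) :
    ((uCoe u v B ψ : (P.AA B)ˣ) : P.AA B) = ((ψ : eqAA u v B) : P.AA B) := rfl

theorem uCoe_inv_val (B : Type u) [CommRing B] [Algebra k B] (ψ : (eqAA u v B)ˣ) :
    (((uCoe u v B ψ)⁻¹ : (P.AA B)ˣ) : P.AA B) = (((ψ⁻¹ : (eqAA u v B)ˣ) : eqAA u v B) : P.AA B) := rfl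

theorem exists_uCoe (B : Type u) [CommRing B] [Algebra k B] (ψ : (P.AA B)ˣ)
    (h : u.app B (ψ : P.AA B) = v.app B (ψ : P.AA B)) : ∃ ψ' : (eqAA u v B)ˣ, uCoe u v B ψ' = ψ := by
  have h' : u.app B ((ψ⁻¹ : (P.AA B)ˣ) : P.AA B) = v.app B ((ψ⁻¹ : (P.AA B)ˣ) : P.AA B) := by
    have e : Units.map ((u.app B : P.AA B →ₐ[B] Q.AA B) : P.AA B →* Q.AA B) ψ
        = Units.map ((v.app B : P.AA B →ₐ[B] Q.AA B) : P.AA B →* Q.AA B) ψ := Units.ext h
    have e' := congrArg (fun t : (Q.AA B)ˣ => ((t⁻¹ : (Q.AA B)ˣ) : Q.AA B)) e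
    exact e'
  refine ⟨⟨⟨ψ, ?_⟩, ⟨((ψ⁻¹ : (P.AA B)ˣ) : P.AA B), ?_⟩, ?_, ?_⟩, ?_⟩
  · rw [AlgHom.mem_equalizer]; exact h
  · rw [AlgHom.mem_equalizer]; exact h'
  · exact Subtype.ext (Units.mul_inv ψ)
  · exact Subtype.ext (Units.inv_mul ψ)
  · exact Units.ext rfl

/-- The equalizer package. -/
def eqPkg (hne : ∀ (B : Type u) [CommRing B] [Algebra k B] [Module.Flat k B] (h : H.pt B),
    ∃ ψ ∈ P.Lift B h, u.app B (ψ : P.AA B) = v.app B (ψ : P.AA B)) : OpPkg H n where
  AA B _ _ := eqAA u v B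
  ring B _ _ := inferInstance
  alg B _ _ := inferInstance
  map f := eqMap u v f
  map_algebraMap f b := Subtype.ext (P.map_algebraMap f b)
  map_id B _ _ x := Subtype.ext (P.map_id B x)
  map_comp f g x := Subtype.ext (P.map_comp f g x)
  D := eqD u v
  Fil j := (P.Fil j).comap (eqD u v).subtype
  fil_anti j := Submodule.comap_mono (P.fil_anti j)
  fil_one := by rw [P.fil_one, Submodule.comap_top]
  fil_last := by
    rw [P.fil_last]
    exact LinearMap.ker_eq_bot.2 (Submodule.subtype_injective _)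
  iota B _ _ := eqIota u v B
  iota_inj B _ _ _ := by
    intro x y hxy
    have h1 : P.iota B ((eqD u v).subtype.baseChange B x) = P.iota B ((eqD u v).subtype.baseChange B y) :=
      congrArg Subtype.val hxy
    have h2 := P.iota_inj B h1
    exact Module.Flat.lTensor_preserves_injective_linearMap (M := B) (eqD u v).subtype
      (Submodule.subtype_injective _) h2
  iota_map f b d := Subtype.ext (P.iota_map f b (d : P.D))
  mul_mem B _ _ _ i j hi hj x y hx hy := by
    have hx' : (eqD u v).subtype.baseChange B x ∈ (P.Fil i).baseChange B := mem_of_comap u v B _ x hx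
    have hy' : (eqD u v).subtype.baseChange B y ∈ (P.Fil j).baseChange B := mem_of_comap u v B _ y hy
    obtain ⟨z, hz, hzz⟩ := P.mul_mem B i j hi hj _ _ hx' hy'
    have hm : P.iota B z ∈ eqAA u v B := by
      rw [hzz]
      exact (eqAA u v B).mul_mem (iota_mem_eqAA u v B x) (iota_mem_eqAA u v B y)
    obtain ⟨t, ht, htt⟩ := exists_eq u v B (P.Fil (i + j)) z hz hm
    exact ⟨t, ht, Subtype.ext (htt.trans hzz)⟩
  Lift B _ _ h := {ψ | uCoe u v B ψ ∈ P.Lift B h}
  lift_ne B _ _ _ h := by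
    obtain ⟨ψ, hψ, he⟩ := hne B h
    obtain ⟨ψ', rfl⟩ := exists_uCoe u v B ψ he
    exact ⟨ψ', hψ⟩
  lift_map f h ψ hψ := by
    have := P.lift_map f h (uCoe u v _ ψ) hψ
    exact this
  lift_mul B _ _ _ h h' ψ hψ ψ' hψ' := by
    change uCoe u v B (ψ * ψ') ∈ P.Lift B (h * h')
    rw [map_mul]
    exact P.lift_mul B h h' _ hψ _ hψ'
  lift_inv B _ _ _ h ψ hψ := by
    change uCoe u v B ψ⁻¹ ∈ P.Lift B h⁻¹
    rw [map_inv]
    exact P.lift_inv B h _ hψ
  lift_one B _ _ _ ψ hψ := by
    obtain ⟨x, hx⟩ := P.lift_one B _ hψ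
    have hx' : ((ψ : eqAA u v B) : P.AA B) = 1 + P.iota B x := hx
    have hm : P.iota B x ∈ eqAA u v B := by
      have : P.iota B x = ((ψ : eqAA u v B) : P.AA B) - 1 := by rw [hx']; abel
      rw [this]
      exact (eqAA u v B).sub_mem (ψ : eqAA u v B).2 (eqAA u v B).one_mem
    obtain ⟨t, -, htt⟩ := exists_eq u v B ⊤ x (by rw [Submodule.baseChange_top]; trivial) hm
    exact ⟨t, Subtype.ext (by
      change ((ψ : eqAA u v B) : P.AA B) = 1 + ((eqIota u v B t : eqAA u v B) : P.AA B)
      rw [htt, hx'])⟩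
  lift_conj B _ _ _ h ψ hψ j hj x hx := by
    have hx' : (eqD u v).subtype.baseChange B x ∈ (P.Fil j).baseChange B := mem_of_comap u v B _ x hx
    obtain ⟨z, hz, hzz⟩ := P.lift_conj B h _ hψ j hj _ hx'
    have hm : P.iota B z ∈ eqAA u v B := by
      rw [hzz]
      exact (eqAA u v B).mul_mem ((eqAA u v B).mul_mem (ψ : eqAA u v B).2 (iota_mem_eqAA u v B x))
        ((ψ⁻¹ : (eqAA u v B)ˣ) : eqAA u v B).2
    obtain ⟨t, ht, htt⟩ := exists_eq u v B (P.Fil j) z hz hm
    exact ⟨t, ht, Subtype.ext (htt.trans hzz)⟩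

end Groth.Agent.ResProp.EF.K60
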