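import Groth.Agent.ResProp.EF.K60.ChartPkg

/-!
# The operator package of an `AlgPkg` with a glued `ψ` (node AD3, helper60)

`s0 : R → G0` the chart, `f0 f1 : G0 → G1` the two maps of the groupoid, `s = f0 ∘ s0`, `t = f1 ∘ s0`,
`ψ : BC s K ≃ BC t K` in `X.L γ`.  `gamPkg` : the operators `L` over `B ⊗ G0` with
`f1^* L ∘ ψ_B = ψ_B ∘ f0^* L`.
-/

set_option autoImplicit false

universe u

open TensorProduct Groth.Agent.ResProp.EF.K104 Groth.Agent.ResProp.EF.K649 Groth.Agent.ResProp.EF.K980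

namespace Groth.Agent.ResProp.EF.K60

section Sq

variable {R R₁ R₂ R₃ R₄ : Type u} [CommRing R] [CommRing R₁] [CommRing R₂] [CommRing R₃] [CommRing R₄] {M N : Type u}
  [AddCommGroup M] [Module R M] [AddCommGroup N] [Module R N]

theorem pull_congr {x₁ y₁ : R →+* R₁} {x₂ y₂ : R →+* R₂} {f g : R₁ →+* R₂} (h : f = g)
    (hx : f.comp x₁ = x₂) (hy : f.comp y₁ = y₂) (hx' : g.comp x₁ = x₂) (hy' : g.comp y₁ = y₂)
    (L : BC x₁ M →ₗ[R₁] BC y₁ N) : BC.pull f hx hy L = BC.pull g hx' hy' L := by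
  subst h; rfl

theorem pull_sq {f : R₁ →+* R₂} {g : R₂ →+* R₄} {f' : R₁ →+* R₃} {g' : R₃ →+* R₄}
    (h : g.comp f = g'.comp f') {x₁ y₁ : R →+* R₁} {x₂ y₂ : R →+* R₂} {x₃ y₃ : R →+* R₃} {x₄ y₄ : R →+* R₄}
    (hx : f.comp x₁ = x₂) (hy : f.comp y₁ = y₂) (hx2 : g.comp x₂ = x₄) (hy2 : g.comp y₂ = y₄)
    (hx' : f'.comp x₁ = x₃) (hy' : f'.comp y₁ = y₃) (hx2' : g'.comp x₃ = x₄) (hy2' : g'.comp y₃ = y₄)
    (L : BC x₁ M →ₗ[R₁] BC y₁ N) :
    BC.pull g hx2 hy2 (BC.pull f hx hy L) = BC.pull g' hx2' hy2' (BC.pull f' hx' hy' L) := by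
  have e1 : (g.comp f).comp x₁ = x₄ := by rw [RingHom.comp_assoc, hx, hx2]
  have e2 : (g.comp f).comp y₁ = y₄ := by rw [RingHom.comp_assoc, hy, hy2]
  have e3 : (g'.comp f').comp x₁ = x₄ := by rw [RingHom.comp_assoc, hx', hx2']
  have e4 : (g'.comp f').comp y₁ = y₄ := by rw [RingHom.comp_assoc, hy', hy2']
  rw [BC.pull_pull hx hy hx2 hy2 e1 e2, BC.pull_pull hx' hy' hx2' hy2' e3 e4]
  exact pull_congr h _ _ _ _ L

end Sq

/-- transport of endomorphisms -/
def cj {S M N : Type u} [CommRing S] [AddCommGroup M] [Module S M] [AddCommGroup N] [Module S N] (e : M ≃ₗ[S] N)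
    (L : N →ₗ[S] N) : M →ₗ[S] M := e.symm.toLinearMap ∘ₗ L ∘ₗ e.toLinearMap

theorem cj_apply {S M N : Type u} [CommRing S] [AddCommGroup M] [Module S M] [AddCommGroup N] [Module S N]
    (e : M ≃ₗ[S] N) (L : N →ₗ[S] N) (v : M) : cj e L v = e.symm (L (e v)) := rfl

section Gam

variable (k : Type u) [CommRing k] {R G0 G1 : Type u} [CommRing R] [CommRing G0] [CommRing G1] [Algebra k G0]
  [Algebra k G1] {P : PGpd.{u} R} {s0 : R →+* G0} {s t : R →+* G1} {H : GFun k} (f0 f1 : G0 →ₐ[k] G1)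
  (h0 : (f0 : G0 →+* G1).comp s0 = s) (h1 : (f1 : G0 →+* G1).comp s0 = t)
  (X : AlgPkg P) (hs0 : s0.Flat) (hs : s.Flat) (ht : t.Flat) (act : HAct k P s0 H)

theorem inR_mG (f : G0 →ₐ[k] G1) (B : Type u) [CommRing B] [Algebra k B] :
    (mG k f B).comp (inR k G0 B) = (inR k G1 B).comp (f : G0 →+* G1) := by
  ext g; rfl

/-- pull-back along `f : G0 → G1` on operators over `B` -/
noncomputable def pAA (B : Type u) [CommRing B] [Algebra k B] {f : G0 →ₐ[k] G1} {s : R →+* G1}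
    (h : (f : G0 →+* G1).comp s0 = s) (X : OpCpx.{u} R) : AAf k X s0 B →ₐ[B] AAf k X s B where
  toFun L := BC.pull (mG k f B) (mG_comp_pB k f h B) (mG_comp_pB k f h B) L
  map_one' := BC.pull_id _
  map_mul' L L' := BC.pull_comp _ _ _ _ _
  map_zero' := BC.pull_zero _ _
  map_add' L L' := BC.pull_add _ _ _ _
  commutes' b := by
    rw [algAAf_algebraMap, algAAf_algebraMap, BC.pull_smul, mG_tmul, map_one]
    congr 1
    exact BC.pull_id _

theorem pAA_apply (B : Type u) [CommRing B] [Algebra k B] {f : G0 →ₐ[k] G1} {s : R →+* G1}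
    (h : (f : G0 →+* G1).comp s0 = s) (X : OpCpx.{u} R) (L : AAf k X s0 B) :
    pAA k B h X L = BC.pull (mG k f B) (mG_comp_pB k f h B) (mG_comp_pB k f h B) L := rfl

/-- pull-back of `D` -/
noncomputable def pD {f : G0 →ₐ[k] G1} {s : R →+* G1} (h : (f : G0 →+* G1).comp s0 = s) (X : OpCpx.{u} R) :
    Dk k X s0 →ₗ[k] Dk k X s where
  toFun T := Dk.mk k X s (BC.pull (f : G0 →+* G1) h h (Dk.val k X s0 T)) (pull_mem_DDx X _ h T.2)
  map_add' T T' := Dk.ext k X s (BC.pull_add h h (Dk.val k X s0 T) (Dk.val k X s0 T'))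
  map_smul' r T := Dk.ext k X s (by
    change BC.pull (f : G0 →+* G1) h h (algebraMap k G0 r • Dk.val k X s0 T) =
      algebraMap k G1 r • BC.pull (f : G0 →+* G1) h h (Dk.val k X s0 T)
    rw [BC.pull_smul]
    congr 1
    exact f.commutes r)

theorem pD_val {f : G0 →ₐ[k] G1} {s : R →+* G1} (h : (f : G0 →+* G1).comp s0 = s) (X : OpCpx.{u} R) (T : Dk k X s0) :
    Dk.val k X s (pD k h X T) = BC.pull (f : G0 →+* G1) h h (Dk.val k X s0 T) := rfl

theorem pAA_iotaf (B : Type u) [CommRing B] [Algebra k B] {f : G0 →ₐ[k] G1} {s : R →+* G1}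
    (h : (f : G0 →+* G1).comp s0 = s) (X : OpCpx.{u} R) (x : B ⊗[k] Dk k X s0) :
    pAA k B h X (iotaf k X s0 B x) = iotaf k X s B ((pD k h X).lTensor B x) := by
  induction x with
  | zero => rw [map_zero, map_zero, map_zero, map_zero]
  | add a b ha hb => rw [map_add, map_add, map_add, map_add, ha, hb]
  | tmul b T =>
    rw [LinearMap.lTensor_tmul, iotaf_tmul, iotaf_tmul, pAA_apply, BC.pull_smul, mG_tmul, map_one]
    congr 1
    exact pull_sq (inR_mG k f B) (inR_comp k s0 B) (inR_comp k s0 B) (mG_comp_pB k f h B) (mG_comp_pB k f h B) h h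
      (inR_comp k s B) (inR_comp k s B) (Dk.val k X s0 T)

theorem pAA_nat {f : G0 →ₐ[k] G1} {s : R →+* G1} (h : (f : G0 →+* G1).comp s0 = s) (X : OpCpx.{u} R) {B C : Type u}
    [CommRing B] [Algebra k B] [CommRing C] [Algebra k C] (g : B →ₐ[k] C) (x : AAf k X s0 B) :
    pAA k C h X (BC.pull (mB k G0 g) (mB_comp_pB k s0 g) (mB_comp_pB k s0 g) x) =
      BC.pull (mB k G1 g) (mB_comp_pB k s g) (mB_comp_pB k s g) (pAA k B h X x) :=
  pull_sq (mB_mG k f g).symm (mB_comp_pB k s0 g) (mB_comp_pB k s0 g) (mG_comp_pB k f h C) (mG_comp_pB k f h C)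
    (mG_comp_pB k f h B) (mG_comp_pB k f h B) (mB_comp_pB k s g) (mB_comp_pB k s g) x

/-- the pull-back along `f0` -/
noncomputable def uHom : OpHom (chartPkg X hs0 act) (opFun k X.toOpCpx s hs) where
  app B _ _ := pAA k B h0 X.toOpCpx
  nat {B C} _ _ _ _ f x := pAA_nat k h0 X.toOpCpx f x
  d := pD k h0 X.toOpCpx
  app_iota B _ _ x := pAA_iotaf k B h0 X.toOpCpx x

variable {γ : P.Hom s t} {ψ : BC s X.K ≃ₗ[G1] BC t X.K} (hψ : ψ ∈ X.L γ)

/-- the glued isomorphism over `B` -/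
noncomputable def psB (ψ : BC s X.K ≃ₗ[G1] BC t X.K) (B : Type u) [CommRing B] [Algebra k B] :
    BC (pB k s B) X.K ≃ₗ[B ⊗[k] G1] BC (pB k t B) X.K :=
  BC.pullE (inR k G1 B) (inR_comp k s B) (inR_comp k t B) ψ

theorem psB_toLinearMap (ψ : BC s X.K ≃ₗ[G1] BC t X.K) (B : Type u) [CommRing B] [Algebra k B] :
    (psB k X ψ B).toLinearMap = BC.pull (inR k G1 B) (inR_comp k s B) (inR_comp k t B) ψ.toLinearMap := rfl

theorem psB_symm_toLinearMap (ψ : BC s X.K ≃ₗ[G1] BC t X.K) (B : Type u) [CommRing B] [Algebra k B] :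
    (psB k X ψ B).symm.toLinearMap = BC.pull (inR k G1 B) (inR_comp k t B) (inR_comp k s B) ψ.symm.toLinearMap := rfl

theorem inR_mB {G : Type u} [CommRing G] [Algebra k G] {B C : Type u} [CommRing B] [Algebra k B] [CommRing C] [Algebra k C]
    (f : B →ₐ[k] C) : (mB k G f).comp (inR k G B) = inR k G C := by
  ext g
  change mB k G f (1 ⊗ₜ g) = 1 ⊗ₜ g
  rw [mB_tmul, map_one]

/-- the glued isomorphism is natural in `B` -/
theorem pull_psB (ψ : BC s X.K ≃ₗ[G1] BC t X.K) {B C : Type u} [CommRing B] [Algebra k B] [CommRing C] [Algebra k C]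
    (f : B →ₐ[k] C) :
    BC.pull (mB k G1 f) (mB_comp_pB k s f) (mB_comp_pB k t f) (psB k X ψ B).toLinearMap = (psB k X ψ C).toLinearMap := by
  rw [psB_toLinearMap, psB_toLinearMap, BC.pull_pull (inR_comp k s B) (inR_comp k t B) (mB_comp_pB k s f)
    (mB_comp_pB k t f) (by rw [inR_mB]; rfl) (by rw [inR_mB]; rfl)]
  exact pull_congr (inR_mB k f) _ _ _ _ _

theorem pull_psB_symm (ψ : BC s X.K ≃ₗ[G1] BC t X.K) {B C : Type u} [CommRing B] [Algebra k B] [CommRing C]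
    [Algebra k C] (f : B →ₐ[k] C) :
    BC.pull (mB k G1 f) (mB_comp_pB k t f) (mB_comp_pB k s f) (psB k X ψ B).symm.toLinearMap =
      (psB k X ψ C).symm.toLinearMap := by
  rw [psB_symm_toLinearMap, psB_symm_toLinearMap, BC.pull_pull (inR_comp k t B) (inR_comp k s B) (mB_comp_pB k t f)
    (mB_comp_pB k s f) (by rw [inR_mB]; rfl) (by rw [inR_mB]; rfl)]
  exact pull_congr (inR_mB k f) _ _ _ _ _

/-- pull-back along `f1`, conjugated with the glued isomorphism -/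
noncomputable def vAA (ψ : BC s X.K ≃ₗ[G1] BC t X.K) (B : Type u) [CommRing B] [Algebra k B] :
    AAf k X.toOpCpx s0 B →ₐ[B] AAf k X.toOpCpx s B where
  toFun L := cj (psB k X ψ B) (pAA k B h1 X.toOpCpx L)
  map_one' := by
    rw [map_one]
    ext v
    rw [cj_apply]
    exact (psB k X ψ B).symm_apply_apply v
  map_mul' L L' := by
    rw [map_mul]
    ext v
    rw [Module.End.mul_apply, cj_apply, cj_apply, cj_apply, LinearEquiv.apply_symm_apply, Module.End.mul_apply]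
  map_zero' := by
    rw [map_zero]
    ext v
    rw [cj_apply]
    exact map_zero _
  map_add' L L' := by
    rw [map_add]
    ext v
    rw [LinearMap.add_apply, cj_apply, cj_apply, cj_apply, LinearMap.add_apply, map_add]
  commutes' b := by
    rw [AlgHom.commutes, algAAf_algebraMap, algAAf_algebraMap]
    ext v
    rw [cj_apply, LinearMap.smul_apply, LinearMap.smul_apply, Module.End.one_apply, Module.End.one_apply, map_smul,
      LinearEquiv.symm_apply_apply]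

theorem vAA_apply (ψ : BC s X.K ≃ₗ[G1] BC t X.K) (B : Type u) [CommRing B] [Algebra k B] (L : AAf k X.toOpCpx s0 B) :
    vAA k f1 h1 X ψ B L = cj (psB k X ψ B) (pAA k B h1 X.toOpCpx L) := rfl

theorem pull_psB_mG (ψ : BC s X.K ≃ₗ[G1] BC t X.K) (B : Type u) [CommRing B] [Algebra k B] (L : BC t X.K →ₗ[G1] BC t X.K) :
    BC.pull (inR k G1 B) (inR_comp k s B) (inR_comp k s B) (cj ψ L) =
      cj (psB k X ψ B) (BC.pull (inR k G1 B) (inR_comp k t B) (inR_comp k t B) L) := by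
  rw [cj, cj, BC.pull_comp _ (inR_comp k t B), BC.pull_comp _ (inR_comp k t B)]
  rfl

include hψ hs ht in
theorem cj_mem {j : ℕ} (hj : 1 ≤ j) {L : BC t X.K →ₗ[G1] BC t X.K} (hL : L ∈ X.DDx t j) : cj ψ L ∈ X.DDx s j := by
  have h2 := X.L_inv _ hs ht _ hψ
  exact X.L_conj _ ht hs _ h2 j hj L hL

/-- the `D`-part of `v` -/
noncomputable def vD : Dk k X.toOpCpx s0 →ₗ[k] Dk k X.toOpCpx s where
  toFun T := Dk.mk k X.toOpCpx s (cj ψ (Dk.val k X.toOpCpx t (pD k h1 X.toOpCpx T))) (cj_mem X hs ht hψ le_rfl (Dk.mem _))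
  map_add' T T' := Dk.ext k X.toOpCpx s (by
    rw [map_add]
    ext v
    exact map_add ψ.symm _ _)
  map_smul' r T := Dk.ext k X.toOpCpx s (by
    rw [map_smul, RingHom.id_apply]
    ext v
    exact map_smul ψ.symm _ _)

theorem vD_val (T : Dk k X.toOpCpx s0) :
    Dk.val k X.toOpCpx s (vD k f1 h1 X hs ht hψ T) = cj ψ (Dk.val k X.toOpCpx t (pD k h1 X.toOpCpx T)) := rfl

theorem vAA_iotaf (B : Type u) [CommRing B] [Algebra k B] (x : B ⊗[k] Dk k X.toOpCpx s0) :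
    vAA k f1 h1 X ψ B (iotaf k X.toOpCpx s0 B x) = iotaf k X.toOpCpx s B ((vD k f1 h1 X hs ht hψ).lTensor B x) := by
  induction x with
  | zero => rw [map_zero, map_zero, map_zero, map_zero]
  | add a b ha hb => rw [map_add, map_add, map_add, map_add, ha, hb]
  | tmul b T =>
    rw [LinearMap.lTensor_tmul, vAA_apply, pAA_iotaf, LinearMap.lTensor_tmul, iotaf_tmul, iotaf_tmul, vD_val,
      pull_psB_mG]
    ext v
    rw [cj_apply, LinearMap.smul_apply, LinearMap.smul_apply, map_smul, cj_apply]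

/-- the pull-back along `f1`, conjugated with `ψ` -/
noncomputable def vHom : OpHom (chartPkg X hs0 act) (opFun k X.toOpCpx s hs) where
  app B _ _ := vAA k f1 h1 X ψ B
  nat {B C} _ _ _ _ g x := by
    change vAA k f1 h1 X ψ C (BC.pull (mB k G0 g) (mB_comp_pB k s0 g) (mB_comp_pB k s0 g) x) =
      BC.pull (mB k G1 g) (mB_comp_pB k s g) (mB_comp_pB k s g) (vAA k f1 h1 X ψ B x)
    rw [vAA_apply, vAA_apply, pAA_nat, cj, cj, BC.pull_comp _ (mB_comp_pB k t g), BC.pull_comp _ (mB_comp_pB k t g),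
      pull_psB, pull_psB_symm]
  d := vD k f1 h1 X hs ht hψ
  app_iota B _ _ x := vAA_iotaf k f1 h1 X hs ht hψ B x

/-- `g` over `B ⊗ G0` commutes with the glued isomorphism -/
def CommB (ψ : BC s X.K ≃ₗ[G1] BC t X.K) (B : Type u) [CommRing B] [Algebra k B] (L : AAf k X.toOpCpx s0 B) : Prop :=
  (pAA k B h1 X.toOpCpx L : BC (pB k t B) X.K →ₗ[B ⊗[k] G1] BC (pB k t B) X.K) ∘ₗ (psB k X ψ B).toLinearMap =
    (psB k X ψ B).toLinearMap ∘ₗ (pAA k B h0 X.toOpCpx L)

theorem uv_iff (ψ : BC s X.K ≃ₗ[G1] BC t X.K) (B : Type u) [CommRing B] [Algebra k B] (L : AAf k X.toOpCpx s0 B) :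
    pAA k B h0 X.toOpCpx L = vAA k f1 h1 X ψ B L ↔ CommB k f0 f1 h0 h1 X ψ B L := by
  rw [vAA_apply, CommB, cj]
  constructor
  · intro h
    rw [h]
    ext v
    simp
  · intro h
    rw [h]
    ext v
    simp

/-- **The operator package of an `AlgPkg` glued along the groupoid.** -/
noncomputable def gamPkg (hne : ∀ (B : Type u) [CommRing B] [Algebra k B] [Module.Flat k B] (h : H.pt B),
    ∃ g ∈ X.L (act.app B h), CommB k f0 f1 h0 h1 X ψ B g.toLinearMap) : OpPkg H X.k :=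
  eqPkg (uHom k f0 h0 X hs0 hs act) (vHom k f1 h1 X hs0 hs ht act hψ) fun B _ _ _ h => by
    obtain ⟨g, hg, hc⟩ := hne B h
    refine ⟨uE.symm g, ?_, (uv_iff k f0 f1 h0 h1 X ψ B _).2 hc⟩
    change uE (uE.symm g) ∈ X.L (act.app B h)
    rw [MulEquiv.apply_symm_apply]
    exact hg

end Gam

end Groth.Agent.ResProp.EF.K60
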