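import Groth.Agent.ResProp.EF.K980.Alg
import Groth.Agent.ResProp.EF.K60.EqPkg
import Mathlib.RingTheory.RingHom.Flat

/-!
# The functor of operators of an `OpCpx` over a point (node AD3, helper60)

`s : R →+* G` a point of `R` in a `k`-algebra `G`; `pB k s B : R →+* B ⊗ G`.
`opFun X s : OpFun k` : `AA B = End_(B ⊗ G) (BC (pB k s B) K)`, `D = DDx s 1`.
`upE` : pull-back along `f : G → G'`.
-/

set_option autoImplicit false

universe u

open TensorProduct Groth.Agent.ResProp.EF.K104 Groth.Agent.ResProp.EF.K649 Groth.Agent.ResProp.EF.K980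

namespace Groth.Agent.ResProp.EF.K60

section Pts

variable (k : Type u) [CommRing k] {R G G' : Type u} [CommRing R] [CommRing G] [Algebra k G] [CommRing G'] [Algebra k G']

/-- `G → B ⊗ G` -/
def inR (G : Type u) [CommRing G] [Algebra k G] (B : Type u) [CommRing B] [Algebra k B] : G →+* B ⊗[k] G :=
  ((Algebra.TensorProduct.includeRight : G →ₐ[k] B ⊗[k] G) : G →+* B ⊗[k] G)

theorem inR_apply (B : Type u) [CommRing B] [Algebra k B] (g : G) : inR k G B g = 1 ⊗ₜ g := rfl

/-- the point of `R` in `B ⊗ G` over `s : R → G` -/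
def pB (s : R →+* G) (B : Type u) [CommRing B] [Algebra k B] : R →+* B ⊗[k] G := (inR k G B).comp s

theorem inR_comp (s : R →+* G) (B : Type u) [CommRing B] [Algebra k B] : (inR k G B).comp s = pB k s B := rfl

theorem pB_apply (s : R →+* G) (B : Type u) [CommRing B] [Algebra k B] (r : R) : pB k s B r = 1 ⊗ₜ s r := rfl

/-- functoriality in `B` -/
def mB (G : Type u) [CommRing G] [Algebra k G] {B C : Type u} [CommRing B] [Algebra k B] [CommRing C] [Algebra k C]
    (f : B →ₐ[k] C) : B ⊗[k] G →+* C ⊗[k] G :=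
  ((Algebra.TensorProduct.map f (AlgHom.id k G) : B ⊗[k] G →ₐ[k] C ⊗[k] G) : B ⊗[k] G →+* C ⊗[k] G)

@[simp] theorem mB_tmul {B C : Type u} [CommRing B] [Algebra k B] [CommRing C] [Algebra k C] (f : B →ₐ[k] C) (b : B)
    (g : G) : mB k G f (b ⊗ₜ g) = f b ⊗ₜ g := rfl

/-- functoriality in `G` -/
def mG (f : G →ₐ[k] G') (B : Type u) [CommRing B] [Algebra k B] : B ⊗[k] G →+* B ⊗[k] G' :=
  ((Algebra.TensorProduct.map (AlgHom.id k B) f : B ⊗[k] G →ₐ[k] B ⊗[k] G') : B ⊗[k] G →+* B ⊗[k] G')

@[simp] theorem mG_tmul (f : G →ₐ[k] G') (B : Type u) [CommRing B] [Algebra k B] (b : B) (g : G) :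
    mG k f B (b ⊗ₜ g) = b ⊗ₜ f g := rfl

theorem mB_comp_pB (s : R →+* G) {B C : Type u} [CommRing B] [Algebra k B] [CommRing C] [Algebra k C] (f : B →ₐ[k] C) :
    (mB k G f).comp (pB k s B) = pB k s C := by
  ext r
  change mB k G f (1 ⊗ₜ s r) = 1 ⊗ₜ s r
  rw [mB_tmul, map_one]

theorem mG_comp_pB (f : G →ₐ[k] G') {s : R →+* G} {s' : R →+* G'} (h : (f : G →+* G').comp s = s') (B : Type u)
    [CommRing B] [Algebra k B] : (mG k f B).comp (pB k s B) = pB k s' B := by
  subst h
  ext r
  rfl

theorem mB_id (B : Type u) [CommRing B] [Algebra k B] : mB k G (AlgHom.id k B) = RingHom.id _ := by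
  change ((Algebra.TensorProduct.map (AlgHom.id k B) (AlgHom.id k G) : B ⊗[k] G →ₐ[k] B ⊗[k] G) : B ⊗[k] G →+* B ⊗[k] G) = _
  rw [Algebra.TensorProduct.map_id]; rfl

theorem mB_comp {B C D : Type u} [CommRing B] [Algebra k B] [CommRing C] [Algebra k C] [CommRing D] [Algebra k D]
    (f : B →ₐ[k] C) (g : C →ₐ[k] D) : mB k G (g.comp f) = (mB k G g).comp (mB k G f) := by
  have : Algebra.TensorProduct.map (g.comp f) (AlgHom.id k G)
      = (Algebra.TensorProduct.map g (AlgHom.id k G)).comp (Algebra.TensorProduct.map f (AlgHom.id k G)) := by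
    ext x
    · simp
    · simp
  exact congrArg (fun t : B ⊗[k] G →ₐ[k] D ⊗[k] G => (t : B ⊗[k] G →+* D ⊗[k] G)) this

theorem mB_mG (φ : G →ₐ[k] G') {B C : Type u} [CommRing B] [Algebra k B] [CommRing C] [Algebra k C] (f : B →ₐ[k] C) :
    (mB k G' f).comp (mG k φ B) = (mG k φ C).comp (mB k G f) := by
  have : (Algebra.TensorProduct.map f (AlgHom.id k G')).comp (Algebra.TensorProduct.map (AlgHom.id k B) φ)
      = (Algebra.TensorProduct.map (AlgHom.id k C) φ).comp (Algebra.TensorProduct.map f (AlgHom.id k G)) := by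
    ext x
    · simp
    · simp
  exact congrArg (fun t : B ⊗[k] G →ₐ[k] C ⊗[k] G' => (t : B ⊗[k] G →+* C ⊗[k] G')) this

theorem inR_flat (B : Type u) [CommRing B] [Algebra k B] [Module.Flat k B] : (inR k G B).Flat := by
  have h1 : (algebraMap k B).Flat := RingHom.flat_algebraMap_iff.2 inferInstance
  have h2 : (algebraMap G (G ⊗[k] B)).Flat := RingHom.flat_algebraMap_iff.2 inferInstance
  have h3 : ((Algebra.TensorProduct.comm k G B : G ⊗[k] B ≃ₐ[k] B ⊗[k] G) : G ⊗[k] B →+* B ⊗[k] G).Flat :=
    RingHom.Flat.of_bijective (Algebra.TensorProduct.comm k G B).bijective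
  have h4 := h2.comp h3
  have h5 : inR k G B = (((Algebra.TensorProduct.comm k G B : G ⊗[k] B ≃ₐ[k] B ⊗[k] G) : G ⊗[k] B →+* B ⊗[k] G)).comp
      (algebraMap G (G ⊗[k] B)) := by
    ext g
    rfl
  rw [h5]
  exact h4

theorem pB_flat {s : R →+* G} (hs : s.Flat) (B : Type u) [CommRing B] [Algebra k B] [Module.Flat k B] :
    (pB k s B).Flat := hs.comp (inR_flat k B)

end Pts

section Theta

variable (k : Type u) [CommRing k] {R G : Type u} [CommRing R] [CommRing G] [Algebra k G] (s : R →+* G)
  {N : Type u} [AddCommGroup N] [Module R N] {M : Type u} [AddCommGroup M] [Module G M] [Module k M]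
  [IsScalarTower k G M] (e : BC s N ≃ₗ[G] M) (B : Type u) [CommRing B] [Algebra k B]

/-- `b ⊗ m ↦ b • m` -/
def theta : B ⊗[k] M →+ BC (pB k s B) N :=
  TensorProduct.liftAddHom
    { toFun := fun b =>
        { toFun := fun m => ((b ⊗ₜ (1 : G) : B ⊗[k] G)) • BC.tr (inR k G B) (inR_comp k s B) (e.symm m)
          map_zero' := by simp
          map_add' := fun m m' => by simp [smul_add] }
      map_zero' := by ext m; simp
      map_add' := fun b b' => by ext m; simp [TensorProduct.add_tmul, add_smul] }
    (fun r b m => by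
      change ((r • b) ⊗ₜ (1 : G) : B ⊗[k] G) • BC.tr (inR k G B) (inR_comp k s B) (e.symm m) =
        ((b ⊗ₜ (1 : G) : B ⊗[k] G)) • BC.tr (inR k G B) (inR_comp k s B) (e.symm (r • m))
      rw [← algebraMap_smul G r m, map_smul, LinearMap.map_smulₛₗ, smul_smul, inR_apply,
        Algebra.TensorProduct.tmul_mul_tmul, one_mul, mul_one, Algebra.algebraMap_eq_smul_one,
        TensorProduct.tmul_smul, TensorProduct.smul_tmul'])

theorem theta_tmul (b : B) (m : M) :
    theta k s e B (b ⊗ₜ m) = ((b ⊗ₜ (1 : G) : B ⊗[k] G)) • BC.tr (inR k G B) (inR_comp k s B) (e.symm m) := rfl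

/-- the left inverse of `theta` -/
def lam : BC (pB k s B) N →+ B ⊗[k] M :=
  TensorProduct.liftAddHom (R := R) (M := Al (pB k s B)) (N := N)
    { toFun := fun y =>
        { toFun := fun n => LinearMap.lTensor B ((LinearMap.toSpanSingleton G M (e (bc s n))).restrictScalars k)
            (show B ⊗[k] G from y)
          map_zero' := by
            have : (LinearMap.toSpanSingleton G M (e (bc s (0 : N)))).restrictScalars k = 0 := by
              ext g; simp
            rw [this]; simp
          map_add' := fun n n' => by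
            have : (LinearMap.toSpanSingleton G M (e (bc s (n + n')))).restrictScalars k =
              (LinearMap.toSpanSingleton G M (e (bc s n))).restrictScalars k +
              (LinearMap.toSpanSingleton G M (e (bc s n'))).restrictScalars k := by
              ext g; simp
            rw [this, LinearMap.lTensor_add]; rfl }
      map_zero' := by
        ext n
        exact (LinearMap.lTensor B ((LinearMap.toSpanSingleton G M (e (bc s n))).restrictScalars k)).map_zero
      map_add' := fun y y' => by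
        ext n
        exact (LinearMap.lTensor B ((LinearMap.toSpanSingleton G M (e (bc s n))).restrictScalars k)).map_add _ _ }
    (fun r y n => by
      change LinearMap.lTensor B ((LinearMap.toSpanSingleton G M (e (bc s n))).restrictScalars k)
        ((1 ⊗ₜ s r : B ⊗[k] G) * (show B ⊗[k] G from y)) =
        LinearMap.lTensor B ((LinearMap.toSpanSingleton G M (e (bc s (r • n)))).restrictScalars k) (show B ⊗[k] G from y)
      generalize (show B ⊗[k] G from y) = y
      induction y with
      | zero => simp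
      | add a b ha hb => rw [mul_add, map_add, map_add, ha, hb]
      | tmul b g =>
        rw [Algebra.TensorProduct.tmul_mul_tmul, LinearMap.lTensor_tmul, LinearMap.lTensor_tmul, one_mul]
        change b ⊗ₜ[k] ((s r * g) • e (bc s n)) = b ⊗ₜ[k] (g • e (bc s (r • n)))
        rw [LinearMap.map_smulₛₗ, map_smul, smul_smul, mul_comm])

theorem lam_smul_bc (b : B) (g : G) (n : N) :
    lam k s e B ((b ⊗ₜ g : B ⊗[k] G) • bc (pB k s B) n) = b ⊗ₜ (g • e (bc s n)) := by
  rw [BC.smul_bc_eq]
  rfl

theorem lam_theta (z : B ⊗[k] M) : lam k s e B (theta k s e B z) = z := by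
  induction z with
  | zero => simp
  | add a b ha hb => rw [map_add, map_add, ha, hb]
  | tmul b m =>
    obtain ⟨w, rfl⟩ := e.surjective m
    rw [theta_tmul, e.symm_apply_apply]
    induction w using BC.ind with
    | h0 => simp
    | h1 g n =>
      rw [LinearMap.map_smulₛₗ, BC.tr_bc, smul_smul, inR_apply, Algebra.TensorProduct.tmul_mul_tmul, mul_one, one_mul,
        lam_smul_bc, map_smul]
    | h2 a b ha hb => rw [map_add, smul_add, map_add, ha, hb, map_add, TensorProduct.tmul_add]

theorem theta_injective : Function.Injective (theta k s e B) :=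
  Function.LeftInverse.injective (lam_theta k s e B)

end Theta

end Groth.Agent.ResProp.EF.K60
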