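import Groth.Agent.ResProp.EF.K60.OpFunOf

/-!
# The functor of operators of an `OpCpx` over a point, second part (node AD3, helper60)

`opFun k X s hs : OpFun k` for a flat point `s : R →+* G`.
-/

set_option autoImplicit false

universe u

open TensorProduct Groth.Agent.ResProp.EF.K104 Groth.Agent.ResProp.EF.K649 Groth.Agent.ResProp.EF.K980

namespace Groth.Agent.ResProp.EF.K60

section Emb

variable {R R' R'' : Type u} [CommRing R] [CommRing R'] [CommRing R''] {M : Type u} [AddCommGroup M] [Module R M]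

/-- pull-back of operators and base change -/
theorem pull_emb {x : R →+* R'} {x' : R →+* R''} (f : R' →+* R'') (hx : f.comp x = x') (w : BC x (M →ₗ[R] M)) :
    BC.pull f hx hx (BC.emb x w) = BC.emb x' (BC.tr f hx w) := by
  induction w using BC.ind with
  | h0 => rw [map_zero, map_zero, map_zero, BC.pull_zero]
  | h1 r m => rw [map_smul, BC.emb_bc, BC.pull_smul, BC.pull_map, LinearMap.map_smulₛₗ, BC.tr_bc, map_smul, BC.emb_bc]
  | h2 a b ha hb => rw [map_add, BC.pull_add, ha, hb, map_add, map_add]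

variable (X : OpCpx.{u} R)

/-- the operators over `x`, from `BC x (DD j)` -/
def opx (x : R →+* R') (j : ℕ) : BC x (X.DD j) →ₗ[R'] (BC x X.K →ₗ[R'] BC x X.K) :=
  BC.emb x ∘ₗ BC.map x (X.DD j).subtype

theorem opx_apply (x : R →+* R') (j : ℕ) (w : BC x (X.DD j)) : opx X x j w = BC.emb x (BC.map x (X.DD j).subtype w) := rfl

theorem opx_bc (x : R →+* R') (j : ℕ) (S : X.DD j) : opx X x j (bc x S) = BC.map x (S : X.K →ₗ[R] X.K) := by
  rw [opx_apply, BC.map_bc, BC.emb_bc]; rfl

theorem range_opx (x : R →+* R') (j : ℕ) : LinearMap.range (opx X x j) = X.DDx x j := by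
  ext T
  constructor
  · rintro ⟨w, rfl⟩
    exact ⟨_, ⟨w, rfl⟩, rfl⟩
  · rintro ⟨_, ⟨w, rfl⟩, rfl⟩
    exact ⟨w, rfl⟩

theorem mem_DDx_iff (x : R →+* R') (j : ℕ) (T : BC x X.K →ₗ[R'] BC x X.K) : T ∈ X.DDx x j ↔ ∃ w, opx X x j w = T := by
  rw [← range_opx]; rfl

theorem opx_mem (x : R →+* R') (j : ℕ) (w : BC x (X.DD j)) : opx X x j w ∈ X.DDx x j := (mem_DDx_iff X x j _).2 ⟨w, rfl⟩

theorem map_mem_DDx (x : R →+* R') (j : ℕ) {S : X.K →ₗ[R] X.K} (hS : S ∈ X.DD j) : BC.map x S ∈ X.DDx x j := by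
  rw [mem_DDx_iff]
  exact ⟨bc x ⟨S, hS⟩, opx_bc X x j ⟨S, hS⟩⟩

/-- induction on `DDx` -/
theorem DDx_induction (x : R →+* R') (j : ℕ) {p : (BC x X.K →ₗ[R'] BC x X.K) → Prop} (h0 : p 0)
    (h1 : ∀ (r : R') (S : X.K →ₗ[R] X.K), S ∈ X.DD j → p (r • BC.map x S)) (h2 : ∀ a b, p a → p b → p (a + b))
    {T : BC x X.K →ₗ[R'] BC x X.K} (hT : T ∈ X.DDx x j) : p T := by
  obtain ⟨w, rfl⟩ := (mem_DDx_iff X x j T).1 hT
  induction w using BC.ind with
  | h0 => rw [map_zero]; exact h0
  | h1 r S => rw [map_smul, opx_bc]; exact h1 r _ S.2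
  | h2 a b ha hb => rw [map_add]; exact h2 _ _ (ha (opx_mem X x j a)) (hb (opx_mem X x j b))

theorem DDx_succ (x : R →+* R') (j : ℕ) : X.DDx x (j + 1) ≤ X.DDx x j := fun _ hT =>
  DDx_induction X x (j + 1) (zero_mem _) (fun r _ hS => Submodule.smul_mem _ r (map_mem_DDx X x j (X.DD_succ j hS)))
    (fun _ _ => add_mem) hT

theorem DDx_anti (x : R →+* R') {i j : ℕ} (h : i ≤ j) : X.DDx x j ≤ X.DDx x i := by
  induction j, h using Nat.le_induction with
  | base => exact le_rfl
  | succ n _ ih => exact (DDx_succ X x n).trans ih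

theorem DDx_last (x : R →+* R') : X.DDx x (X.k + 1) = ⊥ := by
  rw [eq_bot_iff]
  intro T hT
  refine DDx_induction X x (X.k + 1) (zero_mem _) (fun r S hS => ?_) (fun _ _ => add_mem) hT
  rw [X.DD_last, Submodule.mem_bot] at hS
  rw [hS, BC.map_zero', smul_zero]
  exact zero_mem _

theorem DDx_mul (x : R →+* R') {i j : ℕ} {S T : BC x X.K →ₗ[R'] BC x X.K} (hS : S ∈ X.DDx x i) (hT : T ∈ X.DDx x j) :
    S ∘ₗ T ∈ X.DDx x (i + j) := by
  refine DDx_induction X x i (p := fun S => S ∘ₗ T ∈ X.DDx x (i + j)) ?_ (fun r S hS => ?_) (fun a b ha hb => ?_) hS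
  · rw [LinearMap.zero_comp]; exact zero_mem _
  · refine DDx_induction X x j (p := fun T => (r • BC.map x S) ∘ₗ T ∈ X.DDx x (i + j)) ?_ (fun r' T hT => ?_)
      (fun a b ha hb => ?_) hT
    · rw [LinearMap.comp_zero]; exact zero_mem _
    · rw [LinearMap.smul_comp, LinearMap.comp_smul, ← BC.map_comp]
      exact Submodule.smul_mem _ _ (Submodule.smul_mem _ _ (map_mem_DDx X x _ (X.DD_mul i j S hS T hT)))
    · rw [LinearMap.comp_add]; exact add_mem ha hb
  · rw [LinearMap.add_comp]; exact add_mem ha hb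

/-- pull-back of operators -/
theorem pull_mem_DDx {x : R →+* R'} {x' : R →+* R''} (f : R' →+* R'') (hx : f.comp x = x') {j : ℕ}
    {T : BC x X.K →ₗ[R'] BC x X.K} (hT : T ∈ X.DDx x j) : BC.pull f hx hx T ∈ X.DDx x' j := by
  refine DDx_induction X x j (p := fun T => BC.pull f hx hx T ∈ X.DDx x' j) ?_ (fun r S hS => ?_) (fun a b ha hb => ?_) hT
  · rw [BC.pull_zero]; exact zero_mem _
  · rw [BC.pull_smul, BC.pull_map]; exact Submodule.smul_mem _ _ (map_mem_DDx X x' j hS)
  · rw [BC.pull_add]; exact add_mem ha hb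

theorem opx_injective {x : R →+* R'} (hx : x.Flat) : Function.Injective (opx X x 1) := X.emb_inj x hx

theorem pull_opx {x : R →+* R'} {x' : R →+* R''} (f : R' →+* R'') (hx : f.comp x = x') (j : ℕ) (w : BC x (X.DD j)) :
    BC.pull f hx hx (opx X x j w) = opx X x' j (BC.tr f hx w) := by
  rw [opx_apply, pull_emb, opx_apply, BC.tr_map]

end Emb

section OpF

variable (k : Type u) [CommRing k] {R G : Type u} [CommRing R] [CommRing G] [Algebra k G] (X : OpCpx.{u} R) (s : R →+* G)

/-- `DDx s 1` as a `k`-module -/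
def Dk (_k : Type u) (X : OpCpx.{u} R) (s : R →+* G) : Type u := X.DDx s 1

instance : AddCommGroup (Dk k X s) := inferInstanceAs (AddCommGroup (X.DDx s 1))
instance : Module G (Dk k X s) := inferInstanceAs (Module G (X.DDx s 1))
instance : Module k (Dk k X s) := Module.compHom (Dk k X s) (algebraMap k G)

theorem Dk_smul (r : k) (T : Dk k X s) : r • T = algebraMap k G r • T := rfl

instance : IsScalarTower k G (Dk k X s) := ⟨fun r g T => by rw [Dk_smul, Algebra.smul_def, mul_smul]⟩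

/-- the operator -/
def Dk.val (T : Dk k X s) : BC s X.K →ₗ[G] BC s X.K := T.1

variable {k X s} in
theorem Dk.mem (T : Dk k X s) : Dk.val k X s T ∈ X.DDx s 1 := T.2

/-- constructor -/
def Dk.mk (T : BC s X.K →ₗ[G] BC s X.K) (h : T ∈ X.DDx s 1) : Dk k X s := ⟨T, h⟩

@[simp] theorem Dk.val_mk (T : BC s X.K →ₗ[G] BC s X.K) (h : T ∈ X.DDx s 1) : Dk.val k X s (Dk.mk k X s T h) = T := rfl

@[simp] theorem Dk.val_add (T T' : Dk k X s) : Dk.val k X s (T + T') = Dk.val k X s T + Dk.val k X s T' := rfl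

@[simp] theorem Dk.val_smul (g : G) (T : Dk k X s) : Dk.val k X s (g • T) = g • Dk.val k X s T := rfl

theorem Dk.ext {T T' : Dk k X s} (h : Dk.val k X s T = Dk.val k X s T') : T = T' := Subtype.ext h

/-- `BC s (DD 1) = DDx s 1` -/
noncomputable def eD (hs : s.Flat) : BC s (X.DD 1) ≃ₗ[G] Dk k X s :=
  (LinearEquiv.ofInjective (opx X s 1) (opx_injective X hs)).trans (LinearEquiv.ofEq _ _ (range_opx X s 1))

theorem eD_val (hs : s.Flat) (w : BC s (X.DD 1)) : Dk.val k X s (eD k X s hs w) = opx X s 1 w := rfl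

variable (B : Type u) [CommRing B] [Algebra k B]

/-- the ring of operators over `B ⊗ G` -/
abbrev AAf : Type u := Module.End (B ⊗[k] G) (BC (pB k s B) X.K)

/-- `B` acts through `B ⊗ G` -/
noncomputable instance algAAf : Algebra B (AAf k X s B) := Algebra.compHom (AAf k X s B) (algebraMap B (B ⊗[k] G))

theorem algAAf_smul (b : B) (L : AAf k X s B) : b • L = (b ⊗ₜ (1 : G) : B ⊗[k] G) • L := rfl

theorem algAAf_algebraMap (b : B) : algebraMap B (AAf k X s B) b = (b ⊗ₜ (1 : G) : B ⊗[k] G) • (1 : AAf k X s B) := by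
  rw [Algebra.algebraMap_eq_smul_one]; rfl

noncomputable instance : Module k (AAf k X s B) := Module.compHom (AAf k X s B) (algebraMap k B)

instance : IsScalarTower k B (AAf k X s B) := ⟨fun r b L => by
  change (r • b) • L = algebraMap k B r • (b • L)
  rw [Algebra.smul_def r b, mul_smul]⟩

/-- `T ↦ 1 ⊗ T` -/
noncomputable def opk : Dk k X s →ₗ[k] AAf k X s B where
  toFun T := BC.pull (inR k G B) (inR_comp k s B) (inR_comp k s B) (Dk.val k X s T)
  map_add' T T' := by rw [Dk.val_add, BC.pull_add]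
  map_smul' r T := by
    rw [Dk_smul, Dk.val_smul, BC.pull_smul]
    have e : inR k G B (algebraMap k G r) = (algebraMap k B r ⊗ₜ[k] (1 : G) : B ⊗[k] G) := by
      rw [inR_apply, Algebra.algebraMap_eq_smul_one, Algebra.algebraMap_eq_smul_one, TensorProduct.tmul_smul,
        TensorProduct.smul_tmul']
    rw [e]
    rfl

/-- the operators over `B ⊗ G` -/
noncomputable def iotaf : B ⊗[k] Dk k X s →ₗ[B] AAf k X s B := (opk k X s B).liftBaseChange B

theorem iotaf_tmul (b : B) (T : Dk k X s) : iotaf k X s B (b ⊗ₜ T) =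
    (b ⊗ₜ (1 : G) : B ⊗[k] G) • BC.pull (inR k G B) (inR_comp k s B) (inR_comp k s B) (Dk.val k X s T) := by
  rw [iotaf, LinearMap.liftBaseChange_tmul]; rfl

theorem iotaf_eq (hs : s.Flat) (z : B ⊗[k] Dk k X s) :
    iotaf k X s B z = opx X (pB k s B) 1 (theta k s (eD k X s hs) B z) := by
  induction z with
  | zero => rw [map_zero, map_zero, map_zero]
  | add a b ha hb => rw [map_add, map_add, map_add, ha, hb]
  | tmul b T =>
    obtain ⟨w, rfl⟩ := (eD k X s hs).surjective T
    rw [iotaf_tmul, eD_val, theta_tmul, LinearEquiv.symm_apply_apply, map_smul, pull_opx]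

theorem iotaf_injective (hs : s.Flat) [Module.Flat k B] : Function.Injective (iotaf k X s B) := by
  intro z z' h
  rw [iotaf_eq k X s B hs, iotaf_eq k X s B hs] at h
  exact theta_injective k s (eD k X s hs) B (opx_injective X (pB_flat k hs B) h)

/-- the functor of operators over the flat point `s` -/
noncomputable def opFun (hs : s.Flat) : OpFun k where
  AA B _ _ := AAf k X s B
  ring B _ _ := inferInstance
  alg B _ _ := algAAf k X s B
  map {B C} _ _ _ _ f :=
    { toFun := fun L => BC.pull (mB k G f) (mB_comp_pB k s f) (mB_comp_pB k s f) L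
      map_one' := BC.pull_id _
      map_mul' := fun L L' => BC.pull_comp _ _ _ _ _
      map_zero' := BC.pull_zero _ _
      map_add' := fun L L' => BC.pull_add _ _ _ _ }
  D := Dk k X s
  iota B _ _ := iotaf k X s B
  iota_inj B _ _ _ := iotaf_injective k X s B hs

end OpF

end Groth.Agent.ResProp.EF.K60
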