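import Groth.Agent.ResProp.EF.K60.GamPkg
import Groth.Agent.ResProp.EF.K104.Out

/-!
# Operators over `B ⊗ G` act on `B ⊗ M`, `M = BC s N` (helper60)

`e : BC s N ≃ₗ[G] M`; `kapS : End_(B ⊗ G) (BC (pB s B) N) →+* End_B (B ⊗ M)`, natural in `B`.
Intertwining: `theta_tr` (change of the point), `theta_ps` (an isomorphism over `G`), `theta_map` (a map of the chart).
`opActOf` : helper104's `OpAct` for a package whose `AA B` maps to the operators at the point `s`.
-/

set_option autoImplicit false

universe u

open TensorProduct Groth.Agent.ResProp.EF.K104 Groth.Agent.ResProp.EF.K649 Groth.Agent.ResProp.EF.K980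

namespace Groth.Agent.ResProp.EF.K60

section One

variable (k : Type u) [CommRing k] {R G : Type u} [CommRing R] [CommRing G] [Algebra k G] (s : R →+* G)
  {N : Type u} [AddCommGroup N] [Module R N] {M : Type u} [AddCommGroup M] [Module G M] [Module k M]
  [IsScalarTower k G M] (e : BC s N ≃ₗ[G] M) (B : Type u) [CommRing B] [Algebra k B]

theorem theta_surjective : Function.Surjective (theta k s e B) := by
  intro w
  induction w using BC.ind with
  | h0 => exact ⟨0, map_zero _⟩
  | h1 r n =>
    induction r with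
    | zero => exact ⟨0, by rw [map_zero, zero_smul]⟩
    | add a b ha hb =>
      obtain ⟨x, hx⟩ := ha
      obtain ⟨y, hy⟩ := hb
      exact ⟨x + y, by rw [map_add, hx, hy, add_smul]⟩
    | tmul b g =>
      refine ⟨b ⊗ₜ e (g • bc s n), ?_⟩
      rw [theta_tmul, e.symm_apply_apply, LinearMap.map_smulₛₗ, BC.tr_bc, smul_smul, inR_apply,
        Algebra.TensorProduct.tmul_mul_tmul, mul_one, one_mul]
  | h2 a b ha hb =>
    obtain ⟨x, hx⟩ := ha
    obtain ⟨y, hy⟩ := hb
    exact ⟨x + y, by rw [map_add, hx, hy]⟩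

theorem theta_smul (b : B) (z : B ⊗[k] M) : theta k s e B (b • z) = (b ⊗ₜ (1 : G) : B ⊗[k] G) • theta k s e B z := by
  induction z with
  | zero => rw [smul_zero, map_zero, smul_zero]
  | add x y hx hy => rw [smul_add, map_add, map_add, smul_add, hx, hy]
  | tmul c m =>
    rw [TensorProduct.smul_tmul', theta_tmul, theta_tmul, smul_smul, Algebra.TensorProduct.tmul_mul_tmul, mul_one]
    rfl

/-- `B ⊗ M ≃ BC (pB s B) N` -/
noncomputable def thetaE : B ⊗[k] M ≃+ BC (pB k s B) N :=
  AddEquiv.ofBijective (theta k s e B) ⟨theta_injective k s e B, theta_surjective k s e B⟩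

theorem thetaE_apply (z : B ⊗[k] M) : thetaE k s e B z = theta k s e B z := rfl

/-- operators over `B ⊗ G` as operators on `B ⊗ M` -/
noncomputable def kapS : Module.End (B ⊗[k] G) (BC (pB k s B) N) →+* Module.End B (B ⊗[k] M) where
  toFun a :=
    { toFun := fun z => (thetaE k s e B).symm (a (thetaE k s e B z))
      map_add' := fun y z => by rw [map_add, map_add, map_add]
      map_smul' := fun b z => by
        rw [AddEquiv.symm_apply_eq, thetaE_apply, thetaE_apply, theta_smul, LinearMap.map_smul, RingHom.id_apply,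
          theta_smul, ← thetaE_apply (B := B) (z := (thetaE k s e B).symm _), AddEquiv.apply_symm_apply]
        rfl }
  map_one' := by
    refine LinearMap.ext fun z => ?_
    exact (thetaE k s e B).symm_apply_apply z
  map_mul' a b := by
    refine LinearMap.ext fun z => ?_
    change (thetaE k s e B).symm (a (b (thetaE k s e B z))) =
      (thetaE k s e B).symm (a (thetaE k s e B ((thetaE k s e B).symm (b (thetaE k s e B z)))))
    rw [AddEquiv.apply_symm_apply]
  map_zero' := by
    refine LinearMap.ext fun z => ?_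
    change (thetaE k s e B).symm 0 = 0
    rw [map_zero]
  map_add' a b := by
    refine LinearMap.ext fun z => ?_
    change (thetaE k s e B).symm (a (thetaE k s e B z) + b (thetaE k s e B z)) =
      (thetaE k s e B).symm (a (thetaE k s e B z)) + (thetaE k s e B).symm (b (thetaE k s e B z))
    rw [map_add]

theorem theta_kapS (a : Module.End (B ⊗[k] G) (BC (pB k s B) N)) (z : B ⊗[k] M) :
    theta k s e B (kapS k s e B a z) = a (theta k s e B z) := (thetaE k s e B).apply_symm_apply _

theorem kapS_eq {a : Module.End (B ⊗[k] G) (BC (pB k s B) N)} {z w : B ⊗[k] M}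
    (h : a (theta k s e B z) = theta k s e B w) : kapS k s e B a z = w :=
  theta_injective k s e B ((theta_kapS k s e B a z).trans h)

theorem kapS_scalar (b : B) (z : B ⊗[k] M) :
    kapS k s e B ((b ⊗ₜ (1 : G) : B ⊗[k] G) • (1 : Module.End (B ⊗[k] G) (BC (pB k s B) N))) z = b • z := by
  refine kapS_eq k s e B ?_
  rw [LinearMap.smul_apply, Module.End.one_apply, theta_smul]

end One

section Two

variable (k : Type u) [CommRing k] {R G G' : Type u} [CommRing R] [CommRing G] [Algebra k G] [CommRing G'] [Algebra k G']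
  {s : R →+* G} {N : Type u} [AddCommGroup N] [Module R N] {M : Type u} [AddCommGroup M] [Module G M] [Module k M]
  [IsScalarTower k G M] (e : BC s N ≃ₗ[G] M)

/-- naturality in `B` -/
theorem theta_rTensor {B C : Type u} [CommRing B] [Algebra k B] [CommRing C] [Algebra k C] (f : B →ₐ[k] C)
    (z : B ⊗[k] M) : theta k s e C (f.toLinearMap.rTensor M z) =
      BC.tr (mB k G f) (mB_comp_pB k s f) (theta k s e B z) := by
  induction z with
  | zero => rw [map_zero, map_zero, map_zero, map_zero]
  | add a b ha hb => rw [map_add, map_add, map_add, map_add, ha, hb]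
  | tmul b m =>
    rw [LinearMap.rTensor_tmul, theta_tmul, theta_tmul, LinearMap.map_smulₛₗ, mB_tmul]
    change (f b ⊗ₜ (1 : G) : C ⊗[k] G) • _ = _
    congr 1
    rw [BC.tr_tr (inR_comp k s B) (mB_comp_pB k s f) (by rw [inR_mB]; rfl)]
    have key : ∀ (g : G →+* C ⊗[k] G) (h : g = inR k G C) (hx : g.comp s = pB k s C) (w : BC s N),
        BC.tr (inR k G C) (inR_comp k s C) w = BC.tr g hx w := by
      intro g h hx w
      subst h
      rfl
    exact key _ (inR_mB k f) _ _

theorem kapS_nat {B C : Type u} [CommRing B] [Algebra k B] [CommRing C] [Algebra k C] (f : B →ₐ[k] C)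
    (a : Module.End (B ⊗[k] G) (BC (pB k s B) N)) (z : B ⊗[k] M) :
    f.toLinearMap.rTensor M (kapS k s e B a z) =
      kapS k s e C (BC.pull (mB k G f) (mB_comp_pB k s f) (mB_comp_pB k s f) a) (f.toLinearMap.rTensor M z) := by
  symm
  refine kapS_eq k s e C ?_
  rw [theta_rTensor, theta_rTensor, BC.pull_tr, theta_kapS]

/-- change of the point: `b : M → M'` corresponds to `tr f` -/
theorem theta_tr {s' : R →+* G'} {M' : Type u} [AddCommGroup M'] [Module G' M'] [Module k M'] [IsScalarTower k G' M']
    (e' : BC s' N ≃ₗ[G'] M') (f : G →ₐ[k] G') (h : (f : G →+* G').comp s = s') (b : M →ₗ[k] M')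
    (hb : ∀ w : BC s N, b (e w) = e' (BC.tr (f : G →+* G') h w)) (B : Type u) [CommRing B] [Algebra k B] (z : B ⊗[k] M) :
    theta k s' e' B (b.lTensor B z) = BC.tr (mG k f B) (mG_comp_pB k f h B) (theta k s e B z) := by
  induction z with
  | zero => rw [map_zero, map_zero, map_zero, map_zero]
  | add a b ha hb => rw [map_add, map_add, map_add, map_add, ha, hb]
  | tmul c m =>
    obtain ⟨w, rfl⟩ := e.surjective m
    rw [LinearMap.lTensor_tmul, theta_tmul, theta_tmul, LinearMap.map_smulₛₗ, mG_tmul, map_one, hb, e'.symm_apply_apply,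
      e.symm_apply_apply]
    congr 1
    have hh : (mG k f B).comp (inR k G B) = (inR k G' B).comp (f : G →+* G') := inR_mG k f B
    rw [BC.tr_tr h (inR_comp k s' B) (by rw [← hh, RingHom.comp_assoc, inR_comp]; exact mG_comp_pB k f h B),
      BC.tr_tr (inR_comp k s B) (mG_comp_pB k f h B) (by rw [RingHom.comp_assoc, inR_comp]; exact mG_comp_pB k f h B)]
    have key : ∀ (g g' : G →+* B ⊗[k] G') (h : g = g') (hx : g.comp s = pB k s' B) (hx' : g'.comp s = pB k s' B),
        BC.tr g hx w = BC.tr g' hx' w := by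
      intro g g' h hx hx'
      subst h
      rfl
    exact key _ _ hh.symm _ _

/-- the intertwining property for a change of the point -/
theorem kapS_tr {s' : R →+* G'} {M' : Type u} [AddCommGroup M'] [Module G' M'] [Module k M'] [IsScalarTower k G' M']
    (e' : BC s' N ≃ₗ[G'] M') (f : G →ₐ[k] G') (h : (f : G →+* G').comp s = s') (b : M →ₗ[k] M')
    (hb : ∀ w : BC s N, b (e w) = e' (BC.tr (f : G →+* G') h w)) (B : Type u) [CommRing B] [Algebra k B]
    (a : Module.End (B ⊗[k] G) (BC (pB k s B) N)) (z : B ⊗[k] M) :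
    b.lTensor B (kapS k s e B a z) =
      kapS k s' e' B (BC.pull (mG k f B) (mG_comp_pB k f h B) (mG_comp_pB k f h B) a) (b.lTensor B z) := by
  symm
  refine kapS_eq k s' e' B ?_
  rw [theta_tr k e e' f h b hb, theta_tr k e e' f h b hb, BC.pull_tr, theta_kapS]

/-- an isomorphism over `G` between two points -/
theorem theta_ps {t : R →+* G} {M' : Type u} [AddCommGroup M'] [Module G M'] [Module k M'] [IsScalarTower k G M']
    (e' : BC t N ≃ₗ[G] M') (ψ : BC s N ≃ₗ[G] BC t N) (b : M →ₗ[k] M') (hb : ∀ w : BC s N, b (e w) = e' (ψ w))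
    (B : Type u) [CommRing B] [Algebra k B] (z : B ⊗[k] M) :
    theta k t e' B (b.lTensor B z) =
      BC.pullE (inR k G B) (inR_comp k s B) (inR_comp k t B) ψ (theta k s e B z) := by
  induction z with
  | zero => rw [map_zero, map_zero, map_zero, map_zero]
  | add a b ha hb => rw [map_add, map_add, map_add, map_add, ha, hb]
  | tmul c m =>
    obtain ⟨w, rfl⟩ := e.surjective m
    rw [LinearMap.lTensor_tmul, theta_tmul, theta_tmul, map_smul, hb, e'.symm_apply_apply, e.symm_apply_apply,
      BC.pullE_tr]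

/-- the intertwining property for an isomorphism over `G` -/
theorem kapS_ps {t : R →+* G} {M' : Type u} [AddCommGroup M'] [Module G M'] [Module k M'] [IsScalarTower k G M']
    (e' : BC t N ≃ₗ[G] M') (ψ : BC s N ≃ₗ[G] BC t N) (b : M →ₗ[k] M') (hb : ∀ w : BC s N, b (e w) = e' (ψ w))
    (B : Type u) [CommRing B] [Algebra k B] (a : Module.End (B ⊗[k] G) (BC (pB k s B) N))
    (a' : Module.End (B ⊗[k] G) (BC (pB k t B) N))
    (h : ∀ w, a' (BC.pullE (inR k G B) (inR_comp k s B) (inR_comp k t B) ψ w) =
      BC.pullE (inR k G B) (inR_comp k s B) (inR_comp k t B) ψ (a w)) (z : B ⊗[k] M) :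
    b.lTensor B (kapS k s e B a z) = kapS k t e' B a' (b.lTensor B z) := by
  symm
  refine kapS_eq k t e' B ?_
  rw [theta_ps k e e' ψ b hb, theta_ps k e e' ψ b hb, h, theta_kapS]

/-- a map of the chart -/
theorem theta_map {N' : Type u} [AddCommGroup N'] [Module R N'] {M' : Type u} [AddCommGroup M'] [Module G M'] [Module k M']
    [IsScalarTower k G M'] (e' : BC s N' ≃ₗ[G] M') (g : N →ₗ[R] N') (b : M →ₗ[k] M')
    (hb : ∀ w : BC s N, b (e w) = e' (BC.map s g w)) (B : Type u) [CommRing B] [Algebra k B] (z : B ⊗[k] M) :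
    theta k s e' B (b.lTensor B z) = BC.map (pB k s B) g (theta k s e B z) := by
  induction z with
  | zero => rw [map_zero, map_zero, map_zero, map_zero]
  | add a b ha hb => rw [map_add, map_add, map_add, map_add, ha, hb]
  | tmul c m =>
    obtain ⟨w, rfl⟩ := e.surjective m
    rw [LinearMap.lTensor_tmul, theta_tmul, theta_tmul, map_smul, hb, e'.symm_apply_apply, e.symm_apply_apply,
      BC.tr_map]

theorem kapS_map {N' : Type u} [AddCommGroup N'] [Module R N'] {M' : Type u} [AddCommGroup M'] [Module G M'] [Module k M']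
    [IsScalarTower k G M'] (e' : BC s N' ≃ₗ[G] M') (g : N →ₗ[R] N') (b : M →ₗ[k] M')
    (hb : ∀ w : BC s N, b (e w) = e' (BC.map s g w)) (B : Type u) [CommRing B] [Algebra k B]
    (a : Module.End (B ⊗[k] G) (BC (pB k s B) N)) (a' : Module.End (B ⊗[k] G) (BC (pB k s B) N'))
    (h : ∀ w, a' (BC.map (pB k s B) g w) = BC.map (pB k s B) g (a w)) (z : B ⊗[k] M) :
    b.lTensor B (kapS k s e B a z) = kapS k s e' B a' (b.lTensor B z) := by
  symm
  refine kapS_eq k s e' B ?_
  rw [theta_map k e e' g b hb, theta_map k e e' g b hb, h, theta_kapS]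

/-- multiplication with an element of `G` -/
theorem kapS_mul (g : G) (b : M →ₗ[k] M) (hb : ∀ m, b m = g • m) (B : Type u) [CommRing B] [Algebra k B]
    (a : Module.End (B ⊗[k] G) (BC (pB k s B) N)) (z : B ⊗[k] M) :
    b.lTensor B (kapS k s e B a z) = kapS k s e B a (b.lTensor B z) := by
  have key : ∀ z : B ⊗[k] M, theta k s e B (b.lTensor B z) = (1 ⊗ₜ g : B ⊗[k] G) • theta k s e B z := by
    intro z
    induction z with
    | zero => rw [map_zero, map_zero, smul_zero]
    | add a b ha hb => rw [map_add, map_add, map_add, ha, hb, smul_add]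
    | tmul c m =>
      rw [LinearMap.lTensor_tmul, theta_tmul, theta_tmul, hb, map_smul, LinearMap.map_smulₛₗ, smul_smul, smul_smul,
        inR_apply, mul_comm]
  symm
  refine kapS_eq k s e B ?_
  rw [key, key, map_smul, theta_kapS]

end Two

section Act

variable {k : Type u} [CommRing k] {R G : Type u} [CommRing R] [CommRing G] [Algebra k G] {s : R →+* G}
  {N : Type u} [AddCommGroup N] [Module R N] {M : Type u} [AddCommGroup M] [Module G M] [Module k M]
  [IsScalarTower k G M] (e : BC s N ≃ₗ[G] M) {H : GFun k} {n : ℕ} (P : OpPkg H n)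

/-- natural maps of a package to the operators at the point `s` -/
structure ToPt (s : R →+* G) (N : Type u) [AddCommGroup N] [Module R N] where
  app : ∀ (B : Type u) [CommRing B] [Algebra k B], P.AA B →+* Module.End (B ⊗[k] G) (BC (pB k s B) N)
  alg : ∀ (B : Type u) [CommRing B] [Algebra k B] (b : B), app B (algebraMap B (P.AA B) b) = (b ⊗ₜ (1 : G) : B ⊗[k] G) • 1
  nat : ∀ {B C : Type u} [CommRing B] [Algebra k B] [CommRing C] [Algebra k C] (f : B →ₐ[k] C) (x : P.AA B),
    BC.pull (mB k G f) (mB_comp_pB k s f) (mB_comp_pB k s f) (app B x) = app C (P.map f x)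

/-- helper104's `OpAct` -/
noncomputable def opActOf {P : OpPkg H n} (T : ToPt P s N) : OpAct P M where
  κ B _ _ := (kapS k s e B).comp (T.app B)
  alg B _ _ _ b y := by
    change kapS k s e B (T.app B (algebraMap B (P.AA B) b)) y = b • y
    rw [T.alg, kapS_scalar]
  nat {B C} _ _ _ _ _ _ f a y := by
    change f.toLinearMap.rTensor M (kapS k s e B (T.app B a) y) = kapS k s e C (T.app C (P.map f a)) _
    rw [kapS_nat, T.nat]

theorem opActOf_apply {P : OpPkg H n} (T : ToPt P s N) (B : Type u) [CommRing B] [Algebra k B] (x : P.AA B) :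
    (opActOf e T).κ B x = kapS k s e B (T.app B x) := rfl

end Act

end Groth.Agent.ResProp.EF.K60
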