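import Groth.Agent.ResProp.EF.K60.EqPkg

/-!
# A sub-package of an operator package (helper60)

`S B` a functorial subalgebra of `AA B` which contains the operators `iota` and the lifts.
-/

set_option autoImplicit false

universe u

open TensorProduct Groth.Agent.ResProp.EF.K104 Groth.Agent.ResProp.EF.K649

namespace Groth.Agent.ResProp.EF.K60

variable {k : Type u} [CommRing k] {H : GFun k} {n : ℕ}

/-- a functorial subalgebra containing operators and lifts -/
structure SubSys (P : OpPkg H n) where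
  /-- the subalgebras -/
  S : ∀ (B : Type u) [CommRing B] [Algebra k B], Subalgebra B (P.AA B)
  map_mem : ∀ {B C : Type u} [CommRing B] [Algebra k B] [CommRing C] [Algebra k C] (f : B →ₐ[k] C) (x : P.AA B),
    x ∈ S B → P.map f x ∈ S C
  iota_mem : ∀ (B : Type u) [CommRing B] [Algebra k B] (x : B ⊗[k] P.D), P.iota B x ∈ S B
  lift_mem : ∀ (B : Type u) [CommRing B] [Algebra k B] [Module.Flat k B] (h : H.pt B), ∀ ψ ∈ P.Lift B h,
    (ψ : P.AA B) ∈ S B

variable {P : OpPkg H n} (T : SubSys P)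

/-- restriction of the functoriality -/
def SubSys.mapS {B C : Type u} [CommRing B] [Algebra k B] [CommRing C] [Algebra k C] (f : B →ₐ[k] C) :
    T.S B →+* T.S C :=
  RingHom.codRestrict ((P.map f).comp (T.S B).val.toRingHom) (T.S C) fun x => T.map_mem f _ x.2

/-- operators -/
def SubSys.iotaS (B : Type u) [CommRing B] [Algebra k B] : B ⊗[k] P.D →ₗ[B] T.S B :=
  LinearMap.codRestrict (Subalgebra.toSubmodule (T.S B)) (P.iota B) (T.iota_mem B)

/-- the inclusion on units -/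
def SubSys.uCoe (B : Type u) [CommRing B] [Algebra k B] : (T.S B)ˣ →* (P.AA B)ˣ :=
  Units.map ((T.S B).val : T.S B →* P.AA B)

theorem SubSys.exists_uCoe (B : Type u) [CommRing B] [Algebra k B] [Module.Flat k B] (h : H.pt B) (ψ : (P.AA B)ˣ)
    (hψ : ψ ∈ P.Lift B h) : ∃ ψ' : (T.S B)ˣ, T.uCoe B ψ' = ψ := by
  have h1 := T.lift_mem B h ψ hψ
  have h2 := T.lift_mem B h⁻¹ ψ⁻¹ (P.lift_inv B h ψ hψ)
  refine ⟨⟨⟨ψ, h1⟩, ⟨((ψ⁻¹ : (P.AA B)ˣ) : P.AA B), h2⟩, ?_, ?_⟩, Units.ext rfl⟩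
  · exact Subtype.ext (Units.mul_inv ψ)
  · exact Subtype.ext (Units.inv_mul ψ)

/-- The sub-package. -/
def SubSys.pkg : OpPkg H n where
  AA B _ _ := T.S B
  ring B _ _ := inferInstance
  alg B _ _ := inferInstance
  map f := T.mapS f
  map_algebraMap f b := Subtype.ext (P.map_algebraMap f b)
  map_id B _ _ x := Subtype.ext (P.map_id B x)
  map_comp f g x := Subtype.ext (P.map_comp f g x)
  D := P.D
  Fil := P.Fil
  fil_anti := P.fil_anti
  fil_one := P.fil_one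
  fil_last := P.fil_last
  iota B _ _ := T.iotaS B
  iota_inj B _ _ _ := by
    intro x y hxy
    exact P.iota_inj B (congrArg Subtype.val hxy)
  iota_map f b d := Subtype.ext (P.iota_map f b d)
  mul_mem B _ _ _ i j hi hj x y hx hy := by
    obtain ⟨z, hz, hzz⟩ := P.mul_mem B i j hi hj _ _ hx hy
    exact ⟨z, hz, Subtype.ext hzz⟩
  Lift B _ _ h := {ψ | T.uCoe B ψ ∈ P.Lift B h}
  lift_ne B _ _ _ h := by
    obtain ⟨ψ, hψ⟩ := P.lift_ne B h
    obtain ⟨ψ', rfl⟩ := T.exists_uCoe B h ψ hψ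
    exact ⟨ψ', hψ⟩
  lift_map f h ψ hψ := by
    have := P.lift_map f h (T.uCoe _ ψ) hψ
    exact this
  lift_mul B _ _ _ h h' ψ hψ ψ' hψ' := by
    change T.uCoe B (ψ * ψ') ∈ P.Lift B (h * h')
    rw [map_mul]
    exact P.lift_mul B h h' _ hψ _ hψ'
  lift_inv B _ _ _ h ψ hψ := by
    change T.uCoe B ψ⁻¹ ∈ P.Lift B h⁻¹
    rw [map_inv]
    exact P.lift_inv B h _ hψ
  lift_one B _ _ _ ψ hψ := by
    obtain ⟨x, hx⟩ := P.lift_one B _ hψ
    exact ⟨x, Subtype.ext hx⟩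
  lift_conj B _ _ _ h ψ hψ j hj x hx := by
    obtain ⟨z, hz, hzz⟩ := P.lift_conj B h _ hψ j hj x hx
    exact ⟨z, hz, Subtype.ext hzz⟩

theorem SubSys.mem_Lift (B : Type u) [CommRing B] [Algebra k B] (h : H.pt B) (ψ : (T.S B)ˣ) :
    ψ ∈ T.pkg.Lift B h ↔ T.uCoe B ψ ∈ P.Lift B h := Iff.rfl

end Groth.Agent.ResProp.EF.K60
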